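import Cfsg.Agent.INV.K3.Prim

/-! Arithmetic of numbers with or without a prime factor `≥ 5`. -/

set_option autoImplicit false

namespace CL.K3

/-- `m` has a prime factor `≥ 5` -/
def Big (m : ℕ) : Prop := ∃ r : ℕ, r.Prime ∧ 5 ≤ r ∧ r ∣ m

namespace Big

theorem mono {m n : ℕ} (h : Big m) (hd : m ∣ n) : Big n :=
  let ⟨r, h1, h2, h3⟩ := h; ⟨r, h1, h2, h3.trans hd⟩

theorem not_of_le {d : ℕ} (h0 : 0 < d) (h4 : d ≤ 4) : ¬ Big d := fun ⟨_, _, h2, h3⟩ => by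
  have := Nat.le_of_dvd h0 h3
  omega

theorem form {m : ℕ} (h0 : m ≠ 0) (h : ¬ Big m) : ∃ i j : ℕ, m = 2 ^ i * 3 ^ j := by
  obtain ⟨i, a, ha, rfl⟩ := Nat.exists_eq_pow_mul_and_not_dvd h0 2 (by norm_num)
  have a0 : a ≠ 0 := by rintro rfl; simp at h0
  obtain ⟨j, b, hb, rfl⟩ := Nat.exists_eq_pow_mul_and_not_dvd a0 3 (by norm_num)
  refine ⟨i, j, ?_⟩
  by_cases h1 : b = 1
  · rw [h1, mul_one]
  obtain ⟨r, hr, hd⟩ := Nat.exists_prime_and_dvd h1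
  refine (h ⟨r, hr, ?_, hd.trans ((dvd_mul_left _ _).trans (dvd_mul_left _ _))⟩).elim
  by_contra h5
  have := hr.two_le
  have h4 : r ≠ 4 := by rintro rfl; exact absurd hr (by norm_num)
  have : r = 2 ∨ r = 3 := by omega
  rcases this with rfl | rfl
  · exact ha (hd.trans (dvd_mul_left _ _))
  · exact hb hd

theorem of_lt {m : ℕ} (a b : ℕ) (h2 : ¬ 2 ^ (a + 1) ∣ m) (h3 : ¬ 3 ^ (b + 1) ∣ m)
    (h : 2 ^ a * 3 ^ b < m) : Big m := by
  by_contra hn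
  obtain ⟨i, j, rfl⟩ := form (by omega) hn
  have hi : i ≤ a := by
    by_contra hi
    exact h2 ((pow_dvd_pow 2 (by omega)).trans (dvd_mul_right _ _))
  have hj : j ≤ b := by
    by_contra hj
    exact h3 ((pow_dvd_pow 3 (by omega)).trans (dvd_mul_left _ _))
  exact absurd h (not_lt.2 (Nat.mul_le_mul (Nat.pow_le_pow_right (by norm_num) hi)
    (Nat.pow_le_pow_right (by norm_num) hj)))

theorem sq_one {q : ℕ} (h : 2 ≤ q) : Big (q ^ 2 + 1) := by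
  refine of_lt 1 0 (fun hd => ?_) (fun hd => ?_) (by nlinarith)
  · have h1 : (q ^ 2 + 1) % 4 = 0 := Nat.mod_eq_zero_of_dvd hd
    have : q % 4 < 4 := Nat.mod_lt _ (by norm_num)
    rw [Nat.add_mod, Nat.pow_mod] at h1
    interval_cases q % 4 <;> simp at h1
  · have h1 : (q ^ 2 + 1) % 3 = 0 := Nat.mod_eq_zero_of_dvd hd
    have : q % 3 < 3 := Nat.mod_lt _ (by norm_num)
    rw [Nat.add_mod, Nat.pow_mod] at h1
    interval_cases q % 3 <;> simp at h1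

theorem cyc3 {q : ℕ} (h : 2 ≤ q) : Big (q ^ 2 + q + 1) := by
  refine of_lt 0 1 (fun hd => ?_) (fun hd => ?_) (by nlinarith)
  · have h1 : (q ^ 2 + q + 1) % 2 = 0 := Nat.mod_eq_zero_of_dvd hd
    have : q % 2 < 2 := Nat.mod_lt _ (by norm_num)
    rw [Nat.add_mod, Nat.add_mod (q ^ 2), Nat.pow_mod] at h1
    interval_cases q % 2 <;> simp at h1
  · have h1 : (q ^ 2 + q + 1) % 9 = 0 := Nat.mod_eq_zero_of_dvd hd
    have : q % 9 < 9 := Nat.mod_lt _ (by norm_num)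
    rw [Nat.add_mod, Nat.add_mod (q ^ 2), Nat.pow_mod] at h1
    interval_cases q % 9 <;> simp at h1

theorem cube_sub {q : ℕ} (h : 2 ≤ q) : Big (q ^ 3 - 1) := by
  refine (cyc3 h).mono ⟨q - 1, ?_⟩
  obtain ⟨t, rfl⟩ : ∃ t, q = t + 1 := ⟨q - 1, by omega⟩
  rw [Nat.add_sub_cancel, Nat.sub_eq_iff_eq_add (Nat.one_le_pow _ _ (by omega))]
  ring

theorem cube_add {q : ℕ} (h : 3 ≤ q) : Big (q ^ 3 + 1) := by
  obtain ⟨t, rfl⟩ : ∃ t, q = t + 1 := ⟨q - 1, by omega⟩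
  exact (cyc3 (q := t) (by omega)).mono ⟨t + 2, by ring⟩

theorem four_sub {q : ℕ} (h : 2 ≤ q) : Big (q ^ 4 - 1) := by
  refine (sq_one h).mono ⟨q ^ 2 - 1, ?_⟩
  obtain ⟨t, ht⟩ : ∃ t, q ^ 2 = t + 1 := ⟨q ^ 2 - 1, by
    have := Nat.one_le_pow 2 q (by omega); omega⟩
  rw [show q ^ 4 = (q ^ 2) ^ 2 by ring, ht, Nat.add_sub_cancel,
    Nat.sub_eq_iff_eq_add (Nat.one_le_pow _ _ (by omega))]
  ring

end Big

theorem cat1 {i j : ℕ} (h : 2 ^ i = 3 ^ j + 1) : 2 ^ i = 2 ∨ 2 ^ i = 4 := by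
  have h1 : 3 ^ j % 8 = 1 ∨ 3 ^ j % 8 = 3 := by
    clear h
    induction j with
    | zero => simp
    | succ j ih => rw [pow_succ]; omega
  have h2 : i < 3 := by
    by_contra hi
    have := pow_dvd_pow 2 (not_lt.1 hi)
    omega
  have : 0 < 3 ^ j := by positivity
  interval_cases i <;> omega

theorem cat2 {i j : ℕ} (h : 3 ^ j = 2 ^ i + 1) : 3 ^ j = 3 ∨ 3 ^ j = 9 := by
  obtain ⟨l, rfl | rfl⟩ := Nat.even_or_odd' j
  · obtain ⟨t, ht⟩ : ∃ t, 3 ^ l = t + 1 := ⟨3 ^ l - 1, by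
      have := Nat.one_le_pow l 3 (by omega); omega⟩
    have h1 : 3 ^ l + 1 ∣ 2 ^ i := ⟨t, by
      rw [mul_comm 2, pow_mul, ht] at h
      rw [ht]
      nlinarith⟩
    obtain ⟨s, -, hs⟩ := (Nat.dvd_prime_pow Nat.prime_two).1 h1
    have := cat1 hs.symm
    have : 0 < 2 ^ i := by positivity
    rw [mul_comm 2, pow_mul] at h ⊢
    have h3 : 3 ^ l = 1 ∨ 3 ^ l = 3 := by omega
    rcases h3 with e | e <;> rw [e] at h ⊢ <;> omega
  · have h1 : 3 ^ (2 * l + 1) % 4 = 3 := by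
      rw [pow_succ, pow_mul, Nat.mul_mod, Nat.pow_mod]
      simp
    have h2 : i < 2 := by
      by_contra hi
      have := pow_dvd_pow 2 (not_lt.1 hi)
      omega
    interval_cases i <;> omega

theorem pow_of_not_big {m : ℕ} (h0 : m ≠ 0) (h : ¬ Big m) :
    (¬ 2 ∣ m → ∃ j, m = 3 ^ j) ∧ (¬ 3 ∣ m → ∃ i, m = 2 ^ i) := by
  obtain ⟨i, j, rfl⟩ := Big.form h0 h
  refine ⟨fun h2 => ⟨j, ?_⟩, fun h3 => ⟨i, ?_⟩⟩
  · rcases i with _ | i
    · simp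
    · exact (h2 ((dvd_pow_self 2 (by omega)).trans (dvd_mul_right _ _))).elim
  · rcases j with _ | j
    · simp
    · exact (h3 ((dvd_pow_self 3 (by omega)).trans (dvd_mul_left _ _))).elim

theorem two_pow_sub {k : ℕ} (hk : k ≠ 0) (h : ¬ Big (2 ^ k - 1)) : 2 ^ k = 2 ∨ 2 ^ k = 4 := by
  have h1 := dvd_pow_self 2 hk
  have h2 := Nat.le_of_dvd (by positivity) h1
  obtain ⟨j, hj⟩ := (pow_of_not_big (by omega) h).1 (by omega)
  exact cat1 (j := j) (by omega)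

theorem two_pow_add {k : ℕ} (hk : k ≠ 0) (h : ¬ Big (2 ^ k + 1)) : 2 ^ k = 2 ∨ 2 ^ k = 8 := by
  have h1 := dvd_pow_self 2 hk
  obtain ⟨j, hj⟩ := (pow_of_not_big (by omega) h).1 (by omega)
  have := cat2 hj.symm
  omega

theorem three_pow_sub {k : ℕ} (hk : k ≠ 0) (h : ¬ Big (3 ^ k - 1)) : 3 ^ k = 3 ∨ 3 ^ k = 9 := by
  have h1 := dvd_pow_self 3 hk
  have h2 := Nat.le_of_dvd (by positivity) h1
  obtain ⟨j, hj⟩ := (pow_of_not_big (by omega) h).2 (by omega)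
  exact cat2 (i := j) (by omega)

theorem three_pow_add {k : ℕ} (hk : k ≠ 0) (h : ¬ Big (3 ^ k + 1)) : 3 ^ k = 3 := by
  have h1 := dvd_pow_self 3 hk
  obtain ⟨j, hj⟩ := (pow_of_not_big (by omega) h).2 (by omega)
  have := cat1 hj.symm
  omega

/-- a prime power without big prime factor is a power of two or three -/
theorem prime_cases {r k : ℕ} (hr : r.Prime) (hk : k ≠ 0) (h : ¬ Big (r ^ k)) : r = 2 ∨ r = 3 := by
  by_contra hn
  refine h ⟨r, hr, ?_, dvd_pow_self r hk⟩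
  have := hr.two_le
  have h4 : r ≠ 4 := by rintro rfl; exact absurd hr (by norm_num)
  omega

theorem smooth3 {q r k : ℕ} (hr : r.Prime) (hk : k ≠ 0) (hq : q = r ^ k)
    (h : ¬ Big (q * (q ^ 2 - 1))) : q = 2 ∨ q = 3 := by
  have e : q ^ 2 - 1 = (q + 1) * (q - 1) := by simpa using Nat.sq_sub_sq q 1
  rw [e] at h
  have h0 : ¬ Big q := fun b => h (b.mono (dvd_mul_right _ _))
  have h1 : ¬ Big (q + 1) := fun b => h (b.mono ((dvd_mul_right _ _).mul_left _))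
  have h2 : ¬ Big (q - 1) := fun b => h (b.mono ((dvd_mul_left _ _).mul_left _))
  subst hq
  rcases prime_cases hr hk h0 with rfl | rfl
  · have := two_pow_sub hk h2
    have := two_pow_add hk h1
    omega
  · exact Or.inr (three_pow_add hk h1)

variable {G : Type*} [Group G] {p : ℕ}

theorem Ord.not_big (h : Ord G p) {x y d : ℕ} (hx : Big x) (hy : Big y) (hd : ¬ Big d)
    (hxy : x * y ∣ d * Nat.card G) : False := by
  obtain ⟨r, hr, r5, hrx⟩ := hx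
  obtain ⟨s, hs, s5, hsy⟩ := hy
  refine h.not_dvd hr hs r5 s5 (Nat.Coprime.dvd_of_dvd_mul_left ?_
    ((Nat.mul_dvd_mul hrx hsy).trans hxy))
  exact Nat.Coprime.mul_left ((Nat.Prime.coprime_iff_not_dvd hr).2 fun e => hd ⟨r, hr, r5, e⟩)
    ((Nat.Prime.coprime_iff_not_dvd hs).2 fun e => hd ⟨s, hs, s5, e⟩)

theorem Ord.big (h : Ord G p) : Big (Nat.card G) := ⟨p, h.pp, h.p5, h.dvd⟩

theorem not_big_of_dvd {m a b : ℕ} (h : m ∣ 2 ^ a * 3 ^ b) : ¬ Big m := fun ⟨r, hr, r5, hd⟩ => by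
  rcases (Nat.Prime.dvd_mul hr).1 (hd.trans h) with h1 | h1
  · have := Nat.le_of_dvd (by norm_num) (hr.dvd_of_dvd_pow h1)
    omega
  · have := Nat.le_of_dvd (by norm_num) (hr.dvd_of_dvd_pow h1)
    omega

end CL.K3
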