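import Cfsg.Agent.INV.K3.Ar0
import Cfsg.Agent.S0243
import Cfsg.Agent.S0252
import Cfsg.Agent.S0253
import Cfsg.Agent.S0254
import Cfsg.Agent.S0255

/-! Linear groups of order `p 3^a 2^b`. -/

set_option autoImplicit false
open Subgroup Cfsg CL.MSS CL.BG CL.KM

namespace CL.K3
variable {G : Type*} [Group G] [Finite G] {p : ℕ}

/-- Order formula S0243; `Ord.not_dvd` (no product of two primes ≥ 5 divides the order), `Smp.four`.
n = 2: q = 2^k: q-1, q+1 coprime odd, one of them is a power of 3, so q = 4 or 8 (q = 2 is solvable / p does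
not divide 6); q = 3^k: one of q-1, q+1 is a power of 2, so q = 9 (q = 3: p does not divide 12); otherwise the
characteristic is p, q = p ∈ {5,7,13,17}, and 7*13 divides |L2(13)|. Isos S0252, S0253 (A5), S0254 (A6).
n = 3: (q²+q+1)/gcd(3,q-1) is prime to 6 and > 1, and q²-1 has a prime factor ≥ 5 unless q = 2, 3 (or q itself
is divisible by a prime ≥ 5); L3(2) = L2(7) is S0255.  n ≥ 4: gcd(n,q-1) divides q²-1, so (q³-1)(q⁴-1) divides
the order; both q²+q+1 (odd, not divisible by 9) and q²+1 (not divisible by 3, 4) have a prime factor ≥ 5. -/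
theorem lst_psl (h : Smp G p) {n : ℕ} (hn : 2 ≤ n) {F : Type} [Field F] [Fintype F]
    (e : G ≃* Matrix.ProjectiveSpecialLinearGroup (Fin n) F) : Lst G := by
  obtain ⟨r, _, k, hr, hk⟩ := FiniteField.card' F
  have hk0 : (k : ℕ) ≠ 0 := k.ne_zero
  have H := Cfsg.Agent.S0243.result (F := F) rfl n hn
  rw [← Nat.card_congr e.toEquiv] at H
  have hq2 : 2 ≤ Fintype.card F := Fintype.one_lt_card
  have hb := h.toOrd.big
  have iso : ∀ {X : Type} [Group X], Nonempty (Matrix.ProjectiveSpecialLinearGroup (Fin n) F ≃* X) →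
      Nonempty (G ≃* X) := fun ⟨f⟩ => ⟨e.trans f⟩
  obtain ⟨t, ht⟩ : ∃ t, Fintype.card F = t + 1 := ⟨Fintype.card F - 1, by omega⟩
  have ht0 : 0 < t := by omega
  have sub : ∀ a b : ℕ, Fintype.card F ^ (a + b) - Fintype.card F ^ a =
      Fintype.card F ^ a * (Fintype.card F ^ b - 1) := fun a b => by
    rw [Nat.mul_sub_one, pow_add]
  have e2 : Fintype.card F ^ 2 - 1 = (Fintype.card F + 1) * (Fintype.card F - 1) := by
    simpa using Nat.sq_sub_sq (Fintype.card F) 1
  obtain rfl | rfl | h4 : n = 2 ∨ n = 3 ∨ 4 ≤ n := by omega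
  · have hd : ¬ Big (Nat.gcd 2 (Fintype.card F - 1)) :=
      Big.not_of_le (Nat.gcd_pos_of_pos_left _ (by norm_num))
        ((Nat.gcd_le_left _ (by norm_num)).trans (by norm_num))
    have H1 : Nat.gcd 2 (Fintype.card F - 1) * Nat.card G =
        Fintype.card F * ((Fintype.card F + 1) * (Fintype.card F - 1)) := by
      refine Nat.eq_of_mul_eq_mul_left (show 0 < Fintype.card F - 1 by omega) ?_
      rw [mul_left_comm, H, Fin.prod_univ_two]
      change (_ - _ ^ 0) * (_ ^ (1 + 1) - _ ^ 1) = _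
      rw [sub 1 1, pow_zero, e2, pow_one]
      ring
    have hbb : ¬ Big (Fintype.card F + 1) ∨ ¬ Big (Fintype.card F - 1) := by
      by_contra hc
      push Not at hc
      exact h.toOrd.not_big hc.1 hc.2 hd (H1 ▸ dvd_mul_left _ _)
    have small : Fintype.card F ≠ 2 ∧ Fintype.card F ≠ 3 := by
      constructor <;> intro e <;> rw [e] at H1 <;>
        exact not_big_of_dvd (a := 3) (b := 1)
          ((Dvd.intro_left _ H1).trans (by norm_num)) hb
    by_cases hB : Big (Fintype.card F)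
    · have hr5 : 5 ≤ r := by
        obtain ⟨s, hs, s5, hd⟩ := hB
        rw [hk] at hd
        rwa [← (Nat.prime_dvd_prime_iff_eq hs hr).1 (hs.dvd_of_dvd_pow hd)]
      have hrB : Big r := ⟨r, hr, hr5, dvd_rfl⟩
      have hk1 : Fintype.card F = r := by
        by_contra hne
        refine h.toOrd.not_big hrB hrB hd (H1 ▸ Dvd.dvd.mul_right ?_ _)
        rw [hk, ← sq]
        refine pow_dvd_pow r ?_
        by_contra h2
        rw [hk, show (k : ℕ) = 1 by omega, pow_one] at hne
        exact hne rfl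
      have hrp : r = p := by
        have := h.toOrd.prime_dvd hr (Nat.Coprime.dvd_of_dvd_mul_left
          ((Nat.Prime.coprime_iff_not_dvd hr).2 fun e => hd ⟨r, hr, hr5, e⟩)
          (H1 ▸ hk1 ▸ dvd_mul_right _ _))
        omega
      rw [hrp] at hk1
      rcases h.four with e' | e' | e' | e' <;> rw [e'] at hk1
      · exact Or.inl (iso (Cfsg.Agent.S0253.result hk1))
      · exact Or.inr (Or.inr (Or.inr (Or.inl ⟨F, _, _, Or.inl hk1, ⟨e⟩⟩)))
      · refine (h.toOrd.not_big hB ⟨7, by norm_num, by norm_num, dvd_rfl⟩ hd ?_).elim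
        rw [H1, hk1]
        norm_num
      · exact Or.inr (Or.inr (Or.inr (Or.inl ⟨F, _, _, Or.inr (Or.inr hk1), ⟨e⟩⟩)))
    rw [hk] at hB hbb
    rcases prime_cases hr hk0 hB with rfl | rfl
    · have : Fintype.card F = 4 ∨ Fintype.card F = 8 := by
        rcases hbb with h1 | h1
        · have := two_pow_add hk0 h1
          omega
        · have := two_pow_sub hk0 h1
          omega
      rcases this with e' | e'
      · exact Or.inl (iso (Cfsg.Agent.S0252.result e'))
      · exact Or.inr (Or.inr (Or.inr (Or.inl ⟨F, _, _, Or.inr (Or.inl e'), ⟨e⟩⟩)))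
    · have : Fintype.card F = 9 := by
        rcases hbb with h1 | h1
        · have := three_pow_add hk0 h1
          omega
        · have := three_pow_sub hk0 h1
          omega
      exact Or.inr (Or.inl (iso (Cfsg.Agent.S0254.result this)))
  · have hd : ¬ Big (Nat.gcd 3 (Fintype.card F - 1)) :=
      Big.not_of_le (Nat.gcd_pos_of_pos_left _ (by norm_num))
        ((Nat.gcd_le_left _ (by norm_num)).trans (by norm_num))
    have H1 : Nat.gcd 3 (Fintype.card F - 1) * Nat.card G = (Fintype.card F ^ 3 - 1) *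
        (Fintype.card F * (Fintype.card F ^ 2 - 1)) * Fintype.card F ^ 2 := by
      refine Nat.eq_of_mul_eq_mul_left (show 0 < Fintype.card F - 1 by omega) ?_
      rw [mul_left_comm, H, Fin.prod_univ_three]
      change (_ - _ ^ 0) * (_ ^ (1 + 2) - _ ^ 1) * (_ ^ (2 + 1) - _ ^ 2) = _
      rw [sub 1 2, sub 2 1, pow_zero, pow_one]
      ring
    rcases smooth3 hr hk0 hk fun b =>
      h.toOrd.not_big (Big.cube_sub hq2) b hd (H1 ▸ dvd_mul_right _ _) with e' | e'
    · have : Fact (Nat.Prime 7) := ⟨by norm_num⟩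
      obtain ⟨f⟩ := Cfsg.Agent.S0255.result (F := ZMod 7) (ZMod.card 7) e'
      exact Or.inr (Or.inr (Or.inr (Or.inl ⟨ZMod 7, _, _, Or.inl (ZMod.card 7), iso ⟨f.symm⟩⟩)))
    · exact Or.inr (Or.inr (Or.inr (Or.inr (Or.inr ⟨F, _, _, e', ⟨e⟩⟩))))
  · exfalso
    obtain ⟨m, rfl⟩ : ∃ m, n = m + 4 := ⟨n - 4, by omega⟩
    obtain ⟨c, hc⟩ : Nat.gcd (m + 4) (Fintype.card F - 1) ∣ Fintype.card F ^ 2 - 1 :=
      e2 ▸ (Nat.gcd_dvd_right _ _).mul_left _
    rw [Fin.prod_univ_eq_prod_range (fun i => Fintype.card F ^ (m + 4) - Fintype.card F ^ i),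
      Finset.prod_range_succ, Finset.prod_range_succ, Finset.prod_range_succ,
      Finset.prod_range_succ, sub m 4, show m + 4 = m + 1 + 3 from rfl, sub (m + 1) 3,
      show m + 1 + 3 = m + 2 + 2 from rfl, sub (m + 2) 2, show m + 2 + 2 = m + 3 + 1 from rfl,
      sub (m + 3) 1, pow_one, hc] at H
    refine h.toOrd.not_big (Big.cube_sub hq2) (Big.four_sub hq2) (d := 1)
      (Big.not_of_le (by norm_num) (by norm_num)) ?_
    rw [one_mul]
    refine Nat.dvd_of_mul_dvd_mul_left (Nat.mul_pos (Nat.gcd_pos_of_pos_left (Fintype.card F - 1)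
      (show 0 < m + 4 by omega)) (show 0 < Fintype.card F - 1 by omega)) ?_
    rw [mul_assoc _ _ (Nat.card G)]
    refine (show m + 4 = m + 3 + 1 from rfl) ▸ H ▸ ?_
    exact ⟨(∏ i ∈ Finset.range m, (Fintype.card F ^ (m + 3 + 1) - Fintype.card F ^ i)) *
      Fintype.card F ^ m * Fintype.card F ^ (m + 1) * Fintype.card F ^ (m + 2) * c *
      Fintype.card F ^ (m + 3), by ring⟩

end CL.K3
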