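import Cfsg.Agent.INV.K3.Ar0
import Cfsg.Agent.S0280
import Cfsg.Agent.S0822
import Cfsg.Agent.S0245
import Cfsg.Agent.S0246

/-! Unitary and symplectic groups of order `p 3^a 2^b`. -/

set_option autoImplicit false
open Subgroup Cfsg CL.MSS CL.BG CL.KM

namespace CL.K3
variable {G : Type*} [Group G] [Finite G] {p : ℕ}

/-- Order formula S0280; `Ord.not_dvd`.  q²-q+1 is odd, not divisible by 9, so
(q²-q+1)/gcd(3,q+1) has a prime factor ≥ 5 when q > 2; q²+1 has a prime factor ≥ 5; q(q²-1) has a prime factor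
≥ 5 unless q = 2, 3.  n = 3: q = 3 (|U3(2)| = 72 is prime to p).  n = 4: q = 2, S0822 with `ZMod 3`.
n ≥ 5: gcd(n,q+1) divides q²-1; q > 2 dies by (q³+1)(q⁴-1), q = 2 by (q⁴-1)(q⁵+1) = 15*33. -/
theorem lst_psu (h : Smp G p) {n q : ℕ} (hn : 3 ≤ n) {F : Type} [Field F] [Fintype F]
    (hF : Fintype.card F = q ^ 2) (e : G ≃* Cfsg.PSU n F q) : Lst G := by
  obtain ⟨r, _, k, hr, hk⟩ := FiniteField.card' F
  obtain ⟨j, -, hj⟩ := (Nat.dvd_prime_pow hr).1
    (show q ∣ r ^ (k : ℕ) by rw [← hk, hF]; exact dvd_pow_self q two_ne_zero)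
  have hq2 : 2 ≤ q := by
    by_contra hlt
    have := Fintype.one_lt_card (α := F)
    have : q = 0 ∨ q = 1 := by omega
    rcases this with rfl | rfl <;> omega
  have hj0 : j ≠ 0 := by
    rintro rfl
    rw [pow_zero] at hj
    omega
  have H := Cfsg.Agent.S0280.result hF n (by omega)
  rw [← Nat.card_congr e.toEquiv] at H
  have hb := h.toOrd.big
  have e2 : q ^ 2 - 1 = (q + 1) * (q - 1) := by simpa using Nat.sq_sub_sq q 1
  have one : ¬ Big 1 := Big.not_of_le (by norm_num) (by norm_num)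
  have key : ∀ m : ℕ, 2 ≤ m → m ≤ n →
      ∏ i ∈ Finset.Ico 2 m, (if Even i then q ^ (i + 1) + 1 else q ^ (i + 1) - 1) ∣
        1 * Nat.card G := by
    intro m h2 hm
    obtain ⟨c, hc⟩ : Nat.gcd n (q + 1) ∣ q ^ 2 - 1 := e2 ▸ (Nat.gcd_dvd_right _ _).mul_right _
    rw [← Finset.prod_range_mul_prod_Ico _ hm, ← Finset.prod_range_mul_prod_Ico _ h2,
      Finset.prod_range_succ, Finset.prod_range_one] at H
    simp only [Even.zero, if_true, zero_add, pow_one, Nat.not_even_one, if_false,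
      one_add_one_eq_two, hc] at H
    rw [one_mul]
    refine Nat.dvd_of_mul_dvd_mul_left (Nat.mul_pos (Nat.gcd_pos_of_pos_left (q + 1)
      (show 0 < n by omega)) (show 0 < q + 1 by omega)) ?_
    rw [mul_assoc _ _ (Nat.card G), H]
    exact ⟨q ^ (n * (n - 1) / 2) * c *
      ∏ i ∈ Finset.Ico m n, (if Even i then q ^ (i + 1) + 1 else q ^ (i + 1) - 1), by ring⟩
  obtain rfl | h4 : n = 3 ∨ 4 ≤ n := by omega
  · have hd : ¬ Big (Nat.gcd 3 (q + 1)) :=
      Big.not_of_le (Nat.gcd_pos_of_pos_left _ (by norm_num))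
        ((Nat.gcd_le_left _ (by norm_num)).trans (by norm_num))
    have H1 : Nat.gcd 3 (q + 1) * Nat.card G = (q ^ 3 + 1) * (q * (q ^ 2 - 1)) * q ^ 2 := by
      refine Nat.eq_of_mul_eq_mul_left (show 0 < q + 1 by omega) ?_
      rw [mul_left_comm, H]
      simp only [Finset.prod_range_succ, Finset.prod_range_zero, Even.zero, if_true,
        Nat.not_even_one, if_false, even_two]
      norm_num
      ring
    have h2 : q ≠ 2 := by
      rintro rfl
      exact not_big_of_dvd (a := 3) (b := 3) ((Dvd.intro_left _ H1).trans (by norm_num)) hb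
    obtain rfl := (smooth3 hr hj0 hj fun b =>
      h.toOrd.not_big (Big.cube_add (q := q) (by omega)) b hd
        (H1 ▸ dvd_mul_right _ _)).resolve_left h2
    exact Or.inr (Or.inr (Or.inr (Or.inr (Or.inl ⟨F, _, _, hF, ⟨e⟩⟩))))
  have h2 : q = 2 := by
    by_contra h2
    have := key 4 (by norm_num) h4
    rw [show Finset.Ico 2 4 = {2, 3} by decide, Finset.prod_pair (by norm_num),
      if_pos (by decide), if_neg (by decide)] at this
    exact h.toOrd.not_big (Big.cube_add (by omega)) (Big.four_sub hq2) one this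
  subst h2
  obtain rfl | h5 : n = 4 ∨ 5 ≤ n := by omega
  · obtain ⟨f⟩ := Cfsg.Agent.S0822.result (K := ZMod 3) hF (ZMod.card 3)
    exact Or.inr (Or.inr (Or.inl ⟨ZMod 3, _, _, ZMod.card 3, ⟨e.trans f⟩⟩))
  · exact (h.toOrd.not_big (x := 5) (y := 11) ⟨5, by norm_num, le_rfl, dvd_rfl⟩
      ⟨11, by norm_num, by norm_num, dvd_rfl⟩ one
      (Dvd.dvd.trans (by decide) (key 5 (by norm_num) h5))).elim

/-- |PSp4(q)| = q⁴(q²-1)(q⁴-1); q²+1 and q²-1 (q = 2^k ≥ 4) both have a prime factor ≥ 5. -/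
theorem not_psp4 (h : Smp G p) {F : Type} [Field F] [Fintype F] [CharP F 2]
    (hF : 4 ≤ Fintype.card F) (e : G ≃* Cfsg.PSp 2 F) : False := by
  obtain ⟨k, -, hk⟩ := FiniteField.card F 2
  have H := Cfsg.Agent.S0245.result (F := F) rfl 2
  have hd : ¬ Big (Nat.gcd 2 (Fintype.card F - 1)) :=
    Big.not_of_le (Nat.gcd_pos_of_pos_left _ (by norm_num))
      ((Nat.gcd_le_left _ (by norm_num)).trans (by norm_num))
  rw [card_eq_card_quotient_mul_card_subgroup (center _),
    Cfsg.Agent.S0246.result (F := F) rfl 2 (by norm_num), mul_comm, ← Nat.card_congr e.toEquiv,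
    Finset.prod_range_succ, Finset.prod_range_one] at H
  have hb : Big (Fintype.card F * (Fintype.card F ^ 2 - 1)) := by
    by_contra hb
    have := smooth3 Nat.prime_two k.ne_zero hk hb
    omega
  refine h.toOrd.not_big hb (Big.four_sub (q := Fintype.card F) (by omega)) hd ?_
  rw [H]
  exact ⟨Fintype.card F ^ 3, by ring⟩

end CL.K3
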