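import Mathlib
import Cfsg.Agent.SIG.KMMain
import Cfsg.Agent.TECH.Amb
import Cfsg.Agent.ODD.Defs
import Cfsg.Agent.SPOR.ES2
import Cfsg.Agent.CHAR.Burnside
import Cfsg.Prelude.Def_Classical
import Cfsg.Prelude.Def_Local
import Cfsg.Prelude.Def_LocalEven
import Cfsg.Prelude.Def_CaseTheorems

/-!
# Simple groups of order `p 3^a 2^b`: definitions
-/

set_option autoImplicit false
open Subgroup Cfsg CL.MSS CL.BG CL.KM

namespace CL.K3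

/-- the eight simple groups of order `p 3^a 2^b`. -/
def Lst (G : Type*) [Group G] : Prop :=
  Nonempty (G ≃* alternatingGroup (Fin 5)) ∨ Nonempty (G ≃* alternatingGroup (Fin 6)) ∨
    (∃ (F : Type) (_ : Field F) (_ : Fintype F), Fintype.card F = 3 ∧
      Nonempty (G ≃* Cfsg.PSp 2 F)) ∨
    (∃ (F : Type) (_ : Field F) (_ : Fintype F),
      (Fintype.card F = 7 ∨ Fintype.card F = 8 ∨ Fintype.card F = 17) ∧
        Nonempty (G ≃* Matrix.ProjectiveSpecialLinearGroup (Fin 2) F)) ∨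
    (∃ (F : Type) (_ : Field F) (_ : Fintype F), Fintype.card F = 9 ∧
      Nonempty (G ≃* Cfsg.PSU 3 F 3)) ∨
    (∃ (F : Type) (_ : Field F) (_ : Fintype F), Fintype.card F = 3 ∧
      Nonempty (G ≃* Matrix.ProjectiveSpecialLinearGroup (Fin 3) F))

/-- the order is `p 3^a 2^b` with a prime `p ≥ 5`. -/
structure Ord (G : Type*) [Group G] (p : ℕ) : Prop where
  pp : p.Prime
  p5 : 5 ≤ p
  card : ∃ a b : ℕ, Nat.card G = p * 3 ^ a * 2 ^ b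

/-- a nonabelian simple group of order `p 3^a 2^b`. -/
structure Smp (G : Type*) [Group G] (p : ℕ) : Prop extends Ord G p where
  simple : IsSimpleGroup G
  nc : ¬ IsMulCommutative G
  /-- elements of order `p` are self-centralizing (S1001) -/
  cent : ∀ y : G, orderOf y = p → 𝐂₁(y) = zpowers y

/-- the generic case: characteristic 2 type, local characteristic 3, and the character-theoretic
restrictions on the order of a Sylow 2-subgroup. -/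
structure Hyp (G : Type*) [Group G] (p : ℕ) : Prop extends Smp G p where
  c2 : IsCharacteristicTwoType G
  c3 : IsOfLocalCharacteristic 3 G
  n128 : p ≤ 7 → ∀ S : Sylow 2 G, #|(S : Subgroup G)| ≠ 128
  n1024 : p = 7 → ∀ S : Sylow 2 G, #|(S : Subgroup G)| ≠ 1024

variable {G : Type*} [Group G]

/-- `O₂(C_G(z))` -/
abbrev Qz (z : G) : Subgroup G := pCoreOf 2 (𝐂₁(z))

/-- no involution centralizes an elementary abelian subgroup of order `9`. -/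
def NoE9 (G : Type*) [Group G] : Prop :=
  ∀ (z : G) (A : Subgroup G), orderOf z = 2 → EA 3 A → (∀ a ∈ A, Commute a z) → #|A| ≤ 3

/-- consequences of `NoE9`. -/
structure Thin (G : Type*) [Group G] : Prop where
  r2 : ∀ (u : G) (A : Subgroup G), orderOf u = 3 → EA 2 A → (∀ a ∈ A, Commute u a) → #|A| ≤ 2
  cyc : ∀ T U : Subgroup G, IsPGroup 3 T → IsPGroup 2 U → U ≠ ⊥ → T ≤ 𝐍(U) → IsCyclic T
  idx : ∀ (c : G) (X : Subgroup G), orderOf c = 2 → X ≤ 𝐂₁(c) → IsPGroup 2 X →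
    #|X| ≤ 2 * #|(X ⊓ Qz c : Subgroup G)|
  inv : ∀ (c u : G) (X : Subgroup G), orderOf c = 2 → orderOf u = 3 → Commute u c →
    X ≤ 𝐂₁(c) → IsPGroup 2 X → u ∈ 𝐍(X) → X ≤ Qz c

/-- `Q` is a sum of natural modules for `SL₂(q) ≤ N(Q) / Q`, and `J / Q` is a Sylow 2-subgroup of
`SL₂(q)`. -/
structure NatD (p q : ℕ) (Q J : Subgroup G) : Prop where
  pq : (p = 5 ∧ q = 4) ∨ (p = 7 ∧ q = 8)
  ea : EA 2 Q
  cent : 𝐂(Q) ≤ Q
  QJ : Q ≤ J
  JN : J ≤ 𝐍(Q)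
  Jp : IsPGroup 2 J
  cardJ : #|J| = q * #|Q|
  sq : ∀ j ∈ J, j * j ∈ Q
  cj : ∀ j ∈ J, j ∉ Q → ∀ x ∈ Q, Commute j x → x ∈ 𝐂(J)
  cardZ : #|(Q ⊓ 𝐂(J) : Subgroup G)| ^ 2 = #|Q|
  dich : #|(Q ⊓ 𝐂(J) : Subgroup G)| = q ∨ 2 * q < #|(Q ⊓ 𝐂(J) : Subgroup G)|
  two : ∀ t ∈ 𝐍(Q), t ∉ Q → (∃ k : ℕ, t ^ 2 ^ k = 1) →
    #|(Q ⊓ 𝐂₁(t) : Subgroup G)| ≤ #|(Q ⊓ 𝐂(J) : Subgroup G)|

/-- `N(Q) / Q ≅ S₅`, `J / Q` is the four-group of `A₄`, and the elements of order 3 of `N(Q)` have no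
fixed points on `Q`. -/
structure S5D (Q J : Subgroup G) (ψ : ↥𝐍(Q) →* Equiv.Perm (Fin 5)) : Prop where
  surj : Function.Surjective ψ
  ker : ∀ x : ↥𝐍(Q), ψ x = 1 ↔ (x : G) ∈ Q
  mem : ∀ x : ↥𝐍(Q), (x : G) ∈ J ↔ ψ x 4 = 4 ∧ Equiv.Perm.sign (ψ x) = 1 ∧ ψ x * ψ x = 1
  fpf : ∀ u ∈ 𝐍(Q), orderOf u = 3 → ∀ x ∈ Q, Commute u x → x = 1

/-- the 2-rank of `N(Q) / Q` is at most that of `SL₂(q)`. -/
def Rk (q : ℕ) (Q : Subgroup G) : Prop :=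
  ∀ A : Subgroup G, EA 2 A → A ≤ 𝐍(Q) → #|A| ≤ q * #|(A ⊓ Q : Subgroup G)|

/-- extra data for the case of one natural module. -/
structure BD (q : ℕ) (Q J : Subgroup G) : Prop where
  sa : ∀ A : Subgroup G, EA 2 A → A ≤ 𝐍(Q) → A ≤ 𝐍(J) → q ^ 2 ≤ #|A| → A ≤ J
  sc : ∀ X : Subgroup G, IsPGroup 2 X → J ≤ X → X ≤ 𝐍(Q) → X ≤ 𝐍(J) ∧ #|X| ≤ 2 * #|J|
  sb : 𝐍(J) ≤ 𝐍(Q) ∨ ∀ X : Subgroup G, IsPGroup 2 X → J ≤ X → X ≤ 𝐍(Q) → X = J

/-- `N(V)` is a maximal 2-local subgroup inducing `GL₃(2)` on `V ≅ E₈`, and `C(V) = O₂(N(V))`. -/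
structure L3D (V : Subgroup G) (y u z : G) : Prop where
  ea : EA 2 V
  card : #|V| = 8
  max : IsMaximalTwoLocal (𝐍(V))
  cent : 𝐂(V) = pCoreOf 2 (𝐍(V))
  yN : y ∈ 𝐍(V)
  uN : u ∈ 𝐍(V)
  y7 : orderOf y = 7
  u3 : orderOf u = 3
  zV : z ∈ V
  z1 : z ≠ 1
  uz : Commute u z
  e8 : ∀ A : Subgroup G, EA 2 A → V ≤ A → 𝐍(V) ≤ 𝐍(A) → A = V
  cardN : #|(𝐍(V))| = 168 * #|(𝐂(V))|

theorem Lst.of_equiv {H : Type*} [Group H] (e : G ≃* H) (h : Lst H) : Lst G := by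
  rcases h with ⟨⟨f⟩⟩ | ⟨⟨f⟩⟩ | ⟨F, _, _, h, ⟨f⟩⟩ | ⟨F, _, _, h, ⟨f⟩⟩ | ⟨F, _, _, h, ⟨f⟩⟩ |
    ⟨F, _, _, h, ⟨f⟩⟩
  · exact Or.inl ⟨e.trans f⟩
  · exact Or.inr (Or.inl ⟨e.trans f⟩)
  · exact Or.inr (Or.inr (Or.inl ⟨F, _, _, h, ⟨e.trans f⟩⟩))
  · exact Or.inr (Or.inr (Or.inr (Or.inl ⟨F, _, _, h, ⟨e.trans f⟩⟩)))
  · exact Or.inr (Or.inr (Or.inr (Or.inr (Or.inl ⟨F, _, _, h, ⟨e.trans f⟩⟩))))
  · exact Or.inr (Or.inr (Or.inr (Or.inr (Or.inr ⟨F, _, _, h, ⟨e.trans f⟩⟩))))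

theorem Ord.of_equiv {H : Type*} [Group H] {p : ℕ} (h : Ord G p) (e : G ≃* H) : Ord H p :=
  ⟨h.pp, h.p5, by rw [← Nat.card_congr e.toEquiv]; exact h.card⟩

/-- the primes dividing the order -/
theorem Ord.prime_dvd {p : ℕ} (h : Ord G p) {r : ℕ} (hr : r.Prime) (hd : r ∣ Nat.card G) :
    r = 2 ∨ r = 3 ∨ r = p := by
  obtain ⟨a, b, e⟩ := h.card
  rw [e] at hd
  rcases (Nat.Prime.dvd_mul hr).1 hd with h1 | h1
  · rcases (Nat.Prime.dvd_mul hr).1 h1 with h2 | h2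
    · exact Or.inr (Or.inr ((Nat.prime_dvd_prime_iff_eq hr h.pp).1 h2))
    · exact Or.inr (Or.inl ((Nat.prime_dvd_prime_iff_eq hr Nat.prime_three).1
        (hr.dvd_of_dvd_pow h2)))
  · exact Or.inl ((Nat.prime_dvd_prime_iff_eq hr Nat.prime_two).1 (hr.dvd_of_dvd_pow h1))

/-- no product of two primes `≥ 5` divides the order -/
theorem Ord.not_dvd {p : ℕ} (h : Ord G p) {r s : ℕ} (hr : r.Prime) (hs : s.Prime) (r5 : 5 ≤ r)
    (s5 : 5 ≤ s) : ¬ r * s ∣ Nat.card G := by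
  intro hd
  have e1 : r = p := by
    have := h.prime_dvd hr ((dvd_mul_right r s).trans hd); omega
  have e2 : s = p := by
    have := h.prime_dvd hs ((dvd_mul_left s r).trans hd); omega
  obtain ⟨a, b, e⟩ := h.card
  rw [e, e1, e2, mul_assoc, Nat.mul_dvd_mul_iff_left h.pp.pos] at hd
  have := h.p5
  rcases (Nat.Prime.dvd_mul h.pp).1 hd with h1 | h1
  · have := (Nat.prime_dvd_prime_iff_eq h.pp Nat.prime_three).1 (h.pp.dvd_of_dvd_pow h1); omega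
  · have := (Nat.prime_dvd_prime_iff_eq h.pp Nat.prime_two).1 (h.pp.dvd_of_dvd_pow h1); omega

theorem Ord.dvd {p : ℕ} (h : Ord G p) : p ∣ Nat.card G := by
  obtain ⟨a, b, e⟩ := h.card
  rw [e, mul_assoc]
  exact dvd_mul_right _ _

theorem ea_iff {q : ℕ} {A : Subgroup G} : EA q A ↔ IsElementaryAbelian q A :=
  ⟨fun h => ⟨h.comm, h.2⟩, fun h => ⟨fun a ha b hb =>
    congrArg Subtype.val (h.1.is_comm.comm ⟨a, ha⟩ ⟨b, hb⟩), h.2⟩⟩

theorem zpowers_two [Finite G] {c : G} (hc : orderOf c = 2) :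
    IsPGroup 2 (zpowers c) ∧ zpowers c ≠ ⊥ ∧ 𝐍(zpowers c) = 𝐂₁(c) := by
  have h1 : c ≠ 1 := CL.LX.ne_one_of_orderOf hc
  refine ⟨IsPGroup.of_card (n := 1) (by rw [Nat.card_zpowers, hc, pow_one]), by simpa using h1,
    le_antisymm (fun g hg => mem_cent1.2 ?_) fun g hg => cent_le_norm fun b hb => ?_⟩
  · rcases (CL.LX.mem_zpowers_of_sq (CL.LX.sq_of_orderOf hc)).1 (conj_mem hg (mem_zpowers c)) with
      h2 | h2
    · exact (h1 (by simpa using h2)).elim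
    · rw [mul_inv_eq_iff_eq_mul] at h2
      exact h2.symm
  · obtain ⟨i, rfl⟩ := mem_zpowers_iff.1 hb
    exact (mem_cent1.1 hg).zpow_left i

/-- characteristic 2, ambient form -/
theorem char_two (h : IsCharacteristicTwoType G) {T : Subgroup G} (hT : IsPGroup 2 T)
    (hT0 : T ≠ ⊥) : 𝐍(T) ⊓ 𝐂(pCoreOf 2 (𝐍(T))) ≤ pCoreOf 2 (𝐍(T)) :=
  oP_charP_iff.1 (h.2 T hT hT0)

/-- `C_{C(c)}(O₂(C(c))) ≤ O₂(C(c))` for an involution `c`. -/
theorem char_two_cent [Finite G] (h : IsCharacteristicTwoType G) {c : G} (hc : orderOf c = 2) :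
    𝐂₁(c) ⊓ 𝐂(Qz c) ≤ Qz c := by
  obtain ⟨h1, h2, h3⟩ := zpowers_two hc
  have := char_two h h1 h2
  rwa [h3] at this

theorem mem_Qz [Finite G] {c : G} (hc : orderOf c = 2) : c ∈ Qz c := by
  obtain ⟨h1, -, h3⟩ := zpowers_two hc
  exact le_oP h1 (zpowers_le.2 (mem_cent1.2 (Commute.refl c))) h3.ge (mem_zpowers c)

theorem cent_Qz_le [Finite G] (h : IsCharacteristicTwoType G) {c : G} (hc : orderOf c = 2) :
    𝐂(Qz c) ≤ Qz c := fun _ hx =>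
  char_two_cent h hc ⟨mem_cent1.2 (mem_cent.1 hx c (mem_Qz hc)), hx⟩

/-- subgroups of order prime to `p` are solvable -/
theorem Ord.solv [Finite G] {p : ℕ} (h : Ord G p) {H : Subgroup G} (hH : ¬ p ∣ #|H|) :
    Group.IsSolvable H :=
  CL.Char.isSolvable_of_primes_subset_pair Nat.prime_two Nat.prime_three fun r hr hd => by
    rcases h.prime_dvd hr (hd.trans (card_subgroup_dvd_card H)) with e | e | e
    exacts [Or.inl e, Or.inr e, (hH (e ▸ hd)).elim]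

/-- an element of order `p` commutes with no nontrivial element of order prime to `p`. -/
theorem Smp.fpf {p : ℕ} (h : Smp G p) {y x : G} (hy : orderOf y = p) (hc : Commute y x) {n : ℕ}
    (hn : x ^ n = 1) (hp : ¬ p ∣ n) : x = 1 := by
  have h1 : x ∈ zpowers y := h.cent y hy ▸ mem_cent1.2 hc
  have h2 : x ^ p = 1 := by
    obtain ⟨i, rfl⟩ := mem_zpowers_iff.1 h1
    rw [← zpow_natCast, ← zpow_mul, mul_comm, zpow_mul, zpow_natCast, ← hy, pow_orderOf_eq_one,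
      one_zpow]
  have := pow_gcd_eq_one.2 ⟨h2, hn⟩
  rwa [((Nat.Prime.coprime_iff_not_dvd h.pp).2 hp).gcd_eq_one, pow_one] at this

theorem Smp.fpf2 {p : ℕ} (h : Smp G p) {y x : G} (hy : orderOf y = p) (hc : Commute y x) {k : ℕ}
    (hn : x ^ 2 ^ k = 1) : x = 1 :=
  h.fpf hy hc hn fun hd => by
    have := (Nat.prime_dvd_prime_iff_eq h.pp Nat.prime_two).1 (h.pp.dvd_of_dvd_pow hd)
    have := h.p5
    omega

theorem Smp.fpf3 {p : ℕ} (h : Smp G p) {y x : G} (hy : orderOf y = p) (hc : Commute y x) {k : ℕ}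
    (hn : x ^ 3 ^ k = 1) : x = 1 :=
  h.fpf hy hc hn fun hd => by
    have := (Nat.prime_dvd_prime_iff_eq h.pp Nat.prime_three).1 (h.pp.dvd_of_dvd_pow hd)
    have := h.p5
    omega

/-- the centralizer of a nontrivial element of order prime to `p` has order prime to `p`. -/
theorem Smp.not_dvd_cent [Finite G] {p : ℕ} (h : Smp G p) {x : G} (hx : x ≠ 1) {n : ℕ}
    (hn : x ^ n = 1) (hp : ¬ p ∣ n) : ¬ p ∣ #|(𝐂₁(x) : Subgroup G)| := fun hd => by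
  haveI := Fact.mk h.pp
  obtain ⟨y, hy⟩ := exists_prime_orderOf_dvd_card' p hd
  exact hx (h.fpf (y := y) (by rw [orderOf_coe, hy]) (mem_cent1.1 y.2).symm hn hp)

theorem Smp.solv_cent [Finite G] {p : ℕ} (h : Smp G p) {x : G} (hx : x ≠ 1) {n : ℕ}
    (hn : x ^ n = 1) (hp : ¬ p ∣ n) : Group.IsSolvable (𝐂₁(x) : Subgroup G) :=
  h.toOrd.solv (h.not_dvd_cent hx hn hp)

end CL.K3
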