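import Cfsg.Agent.INV.K3.Prim
import Cfsg.Agent.INV.Def1Ex
import Cfsg.Agent.INV.ABG.InB
import Cfsg.Agent.BLK.Princ3
import Cfsg.Agent.BLK.DefZero
import Cfsg.Agent.BLK.Star2
import Cfsg.Agent.SIG.FStar

/-! A character of 2-defect zero in the principal 3-block and in the principal `p`-block. -/

set_option autoImplicit false
open Subgroup Cfsg CL.MSS CL.BG CL.KM CL.Char
open CL.Blk hiding irrOne irrOne_apply

namespace CL.K3
variable {G : Type*} [Group G] [Finite G] {p : ℕ}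

theorem Smp.perf (h : Smp G p) : commutator G = ⊤ := by
  have := h.simple
  refine ((inferInstance : (commutator G).Normal).eq_bot_or_eq_top).resolve_left fun e => h.nc ?_
  exact ⟨⟨fun a b => commutatorElement_eq_one_iff_mul_comm.1
    (mem_bot.1 (e ▸ commutator_mem_commutator (mem_top a) (mem_top b)))⟩⟩

theorem Ord.card_sylow (h : Ord G p) (P : Sylow p G) : #|(P : Subgroup G)| = p := by
  haveI := Fact.mk h.pp
  obtain ⟨k, hk⟩ := P.isPGroup'.exists_card_eq
  have h1 : p ∣ #|(P : Subgroup G)| := P.dvd_card_of_dvd_card h.dvd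
  have h2 : ¬ p * p ∣ #|(P : Subgroup G)| := fun hd =>
    h.not_dvd h.pp h.pp h.p5 h.p5 (hd.trans (card_subgroup_dvd_card _))
  rw [hk] at h1 h2 ⊢
  rcases k with _ | _ | k
  · exact absurd (Nat.dvd_one.1 h1) h.pp.one_lt.ne'
  · simp
  · exact absurd ⟨p ^ k, by ring⟩ h2

theorem vanish_inv (h : Smp G p) (c2 : IsCharacteristicTwoType G) {M : Ideal AlgInt}
    (hM : IsPModular 2 M) {χ : IrrCharacter G} (hχ : χ ∉ principalBlock M G) {t : G}
    (ht : orderOf t = 2) : (χ : G → ℂ) t = 0 := by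
  have t1 := CL.LX.ne_one_of_orderOf ht
  have hs : Group.IsSolvable (𝐂₁(t) : Subgroup G) :=
    h.solv_cent t1 (n := 2) (ht ▸ pow_orderOf_eq_one t) fun hd => by
      have := Nat.le_of_dvd two_pos hd
      have := h.p5
      omega
  have hc : pPrimeCore 2 (𝐂₁(t) : Subgroup G) = ⊥ :=
    (CL.Comp.fstar_eq_pCore_iff.1 (CL.Comp.fstar_eq_pCore_iff_centralizer.2
      (oP_charP_iff.2 (char_two_cent c2 ht)))).2
  have hu : principalBlock M (𝐂₁(t) : Subgroup G) = Set.univ :=
    Set.eq_univ_of_forall fun ψ => (mem_principal_iff_core_le_ker hM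
      (CL.isPSolvable_of_isSolvable 2 _) ψ).2 fun n hn => by rw [hc, mem_bot] at hn; rw [hn]
  have := CL.ABG.blockPart_principal_res hM (z := t) ⟨1, by rw [ht, pow_one]⟩
    (h := ⟨t, mem_cent1.2 (Commute.refl t)⟩) (x := t) (isPPart_self hM.1 ⟨1, by rw [ht, pow_one]⟩)
    le_rfl χ.2.isGen.isClassFunction
  rw [hu, blockPart_univ, blockPart_irr_of_notMem hχ] at this
  · exact this
  · exact fun g x => χ.2.isGen.isClassFunction _ _

theorem exists_chi (h : Smp G p) (c2 : IsCharacteristicTwoType G)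
    (he2 : ∀ P : Sylow p G, (P : Subgroup G).relIndex (𝐍((P : Subgroup G))) ≠ 2) :
    ∃ (M : Ideal AlgInt) (χ : IrrCharacter G) (b : ℕ), IsPModular 3 M ∧ χ ∈ principalBlock M G ∧
      (χ : G → ℂ) 1 = 2 ^ b ∧ (∀ g : G, Even (orderOf g) → (χ : G → ℂ) g = 0) ∧
      (∀ S : Sylow 2 G, #|(S : Subgroup G)| = 2 ^ b) ∧ (p ≤ 7 → b ≠ 7) ∧ (p = 7 → b ≠ 10) := by
  classical
  haveI := Fact.mk h.pp
  have := h.simple
  have p5 := h.p5
  obtain ⟨P⟩ : Nonempty (Sylow p G) := inferInstance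
  have hP := h.card_sylow P
  obtain ⟨x, hx⟩ := exists_prime_orderOf_dvd_card' (G := (P : Subgroup G)) p (by rw [hP])
  have hx' : orderOf (x : G) = p := by rw [orderOf_coe, hx]
  have hPx : (P : Subgroup G) = zpowers (x : G) :=
    (eq_of_le_of_card_ge (zpowers_le.2 x.2) (by rw [hP, Nat.card_zpowers, hx'])).symm
  have hC : 𝐂((P : Subgroup G)) = P := by
    rw [hPx, zpowers_eq_closure, centralizer_closure, h.cent _ hx', zpowers_eq_closure]
  obtain ⟨D⟩ := CL.D1.exists_data h.perf (by omega) P hP rfl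
  rw [hC] at D
  have e2 := he2 P
  generalize (P : Subgroup G).relIndex (𝐍((P : Subgroup G))) = e at D e2
  obtain ⟨θ, hθ⟩ := D.Y_nonempty
  have e1 : e ≠ 1 := fun e1 => by
    have h1 := D.card_X
    have h2 := D.deg_eqn hθ
    rw [Finset.card_eq_zero.1 (by omega : D.X.card = 0), Finset.sum_empty, add_zero] at h2
    have h3 := CL.D1.degree_ne_one h.perf (D.ne_one (Or.inr hθ))
    rcases D.ε_sign with h4 | h4 <;> rw [h4] at h2 <;> omega
  obtain ⟨M, hM⟩ := CL.BS.exists_isPModular 3 Nat.prime_three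
  obtain ⟨M2, hM2⟩ := CL.BS.exists_isPModular 2 Nat.prime_two
  obtain ⟨T⟩ : Nonempty (Sylow 3 G) := inferInstance
  have hb := D.block_dvd hM (fun g hg h3 => by
    have h1 : orderOf (g ^ (orderOf g / p)) = p := orderOf_pow_orderOf_div (orderOf_pos g).ne' hg
    have h2 : orderOf (g ^ (orderOf g / 3)) = 3 := orderOf_pow_orderOf_div (orderOf_pos g).ne' h3
    have := h.fpf3 h1 (Commute.pow_pow_self g _ (orderOf g / 3)) (k := 1)
      (by rw [pow_one]; exact orderOf_dvd_iff_pow_eq_one.1 (dvd_of_eq h2))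
    rw [this, orderOf_one] at h2
    omega) (isBlockUnion_of_block hM (isPBlock_principalBlock (M := M) (G := G))) hθ T
  have h3T : (3 : ℤ) ∣ (#|(T : Subgroup G)| : ℤ) := by
    exact_mod_cast T.dvd_card_of_dvd_card h.three_dvd
  obtain ⟨χ, hχ, hχB, h3⟩ : ∃ χ : IrrCharacter G, (χ ∈ D.X ∨ χ = θ) ∧ χ ∈ principalBlock M G ∧
      ¬ 3 ∣ charDegree χ.1 := by
    by_contra hcon
    push Not at hcon
    have h1 := h3T.trans hb
    rw [if_pos (by exact CL.Blk.irrOne_mem_principalBlock hM), add_sub_assoc] at h1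
    have h2 : (3 : ℤ) ∣ ∑ χ ∈ D.X with χ ∈ principalBlock M G, D.δ χ * charDegree χ.1 -
        (if θ ∈ principalBlock M G then D.ε * charDegree θ.1 else 0) := by
      refine dvd_sub (Finset.dvd_sum fun χ hχ => Dvd.dvd.mul_left ?_ _) ?_
      · exact_mod_cast hcon χ (Or.inl (Finset.mem_filter.1 hχ).1) (Finset.mem_filter.1 hχ).2
      · split_ifs with h'
        · exact Dvd.dvd.mul_left (by exact_mod_cast hcon θ (Or.inr rfl) h') _
        · exact dvd_zero _
    have := (dvd_add_left h2).1 h1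
    omega
  have hχ' : χ ∈ D.X ∨ χ ∈ D.Y := hχ.imp id fun e => by rw [e]; exact hθ
  obtain ⟨a, b, hc⟩ := h.card
  have hd : charDegree χ.1 ∣ 2 ^ b := Nat.Coprime.dvd_of_dvd_mul_left
    (((Nat.Prime.coprime_iff_not_dvd h.pp).2 (D.not_dvd_deg hx' hχ')).symm.mul_right
      (((Nat.Prime.coprime_iff_not_dvd Nat.prime_three).2 h3).symm.pow_right a))
    (hc ▸ χ.2.charDegree_dvd_card)
  have hn := CL.D1.notMem_principal_of_pow h.nc hM2 h.two_dvd (D.ne_one hχ') hd
  have hz := defZero_of_vanish_order_p hM2 fun g hg => vanish_inv h c2 hM2 hn hg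
  have hf : (Nat.card G).factorization 2 = b := by
    rw [hc, Nat.factorization_mul (by positivity) (by positivity),
      Nat.factorization_mul (by positivity) (by positivity), Nat.factorization_pow,
      Nat.factorization_pow]
    have h1 : p.factorization 2 = 0 := Nat.factorization_eq_zero_of_not_dvd fun hd => by
      have := (Nat.prime_dvd_prime_iff_eq Nat.prime_two h.pp).1 hd; omega
    have h2 : (3 : ℕ).factorization 2 = 0 := Nat.factorization_eq_zero_of_not_dvd (by norm_num)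
    simp [h1, h2, Nat.prime_two.factorization_self]
  have hdeg : charDegree χ.1 = 2 ^ b :=
    Nat.dvd_antisymm hd (hf ▸ (defZero_iff_pow_dvd Nat.prime_two).1 hz)
  have hmod : (2 : ℤ) ^ b ≡ 1 [ZMOD p] ∨ (2 : ℤ) ^ b ≡ -1 [ZMOD p] ∨ (2 : ℤ) ^ b ≡ e [ZMOD p] ∨
      (2 : ℤ) ^ b ≡ -e [ZMOD p] := by
    rcases hχ' with h1 | h1
    · have h2 := D.deg_X hx' h1
      rw [hdeg] at h2
      push_cast at h2
      rcases D.δ_sign χ h1 with h4 | h4 <;> rw [h4] at h2 <;> tauto
    · have h2 := D.deg_Y χ h1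
      rw [hdeg] at h2
      push_cast at h2
      rcases D.ε_sign with h4 | h4 <;> rw [h4] at h2 <;> simp only [one_mul, neg_mul] at h2 <;> tauto
  have hY := D.card_Y
  have he : e ∣ p - 1 := ⟨D.Y.card, by rw [mul_comm]; omega⟩
  refine ⟨M, χ, b, hM, hχB, ?_, fun g hg => hz.vanish hM2 hg.two_dvd, fun S => ?_, ?_, ?_⟩
  · rw [χ.2.apply_one_eq_charDegree, hdeg]; push_cast; rfl
  · rw [S.card_eq_multiplicity, hf]
  · rintro h7 rfl
    have hp : p = 5 ∨ p = 7 := by have := h.four; omega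
    rcases hp with rfl | rfl
    · have : e ≤ 4 := Nat.le_of_dvd (by norm_num) he
      interval_cases e <;> simp_all [Int.ModEq]
    · have : e ≤ 6 := Nat.le_of_dvd (by norm_num) he
      interval_cases e <;> simp_all [Int.ModEq]
  · rintro rfl rfl
    have : e ≤ 6 := Nat.le_of_dvd (by norm_num) he
    interval_cases e <;> simp_all [Int.ModEq]

end CL.K3
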