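import Cfsg.Agent.INV.K3.Prim
import Cfsg.Prelude.Def_Blocks
import Cfsg.Agent.S0942
import Cfsg.Agent.BLK.Princ2
import Cfsg.Agent.SIG.PLocal
import Cfsg.Agent.SOLV.Fitting

/-! Local characteristic 3 from a character of 2-defect zero in the principal 3-block. -/

set_option autoImplicit false
open Subgroup Cfsg CL.MSS CL.BG CL.KM

namespace CL.K3
variable {G : Type*} [Group G] [Finite G] {p : ℕ}

/-- `F*(C(t)) = O_r(C(t))` for all elements of order `r` gives local characteristic `r`. -/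
theorem ChrB.loc_of_cent {r : ℕ} [Fact r.Prime] (hd : r ∣ Nat.card G)
    (h : ∀ t : G, orderOf t = r →
      generalizedFittingSubgroup (𝐂₁(t) : Subgroup G) = pCore r (𝐂₁(t) : Subgroup G)) :
    IsOfLocalCharacteristic r G := by
  refine ⟨hd, fun T hT hT1 => CL.Comp.fstar_eq_pCore_iff_centralizer.1 ?_⟩
  have : Nontrivial T := (Subgroup.nontrivial_iff_ne_bot T).mpr hT1
  have := hT.center_nontrivial
  have hZ : IsPGroup r (Subgroup.center T) := hT.to_subgroup _
  obtain ⟨n, hn, hc⟩ := (hZ.nontrivial_iff_card).mp inferInstance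
  obtain ⟨z, hz⟩ := exists_prime_orderOf_dvd_card' (G := Subgroup.center T) r
    (hc ▸ dvd_pow_self r hn.ne')
  set t : G := ((z : T) : G) with ht
  have hto : orderOf t = r := by
    rw [ht, Subgroup.orderOf_coe, Subgroup.orderOf_coe, hz]
  have hTt : T ≤ Subgroup.centralizer {t} := by
    intro x hx
    rw [Subgroup.mem_centralizer_singleton_iff]
    have := Subgroup.mem_center_iff.mp z.2 ⟨x, hx⟩
    exact congrArg Subtype.val this
  have hC : Subgroup.centralizer (T : Set G) ≤ Subgroup.centralizer {t} :=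
    Subgroup.centralizer_le (Set.singleton_subset_iff.mpr (z : T).2)
  have h1 := CL.PComp.fstar_eq_pCore_iff_pLayerOf.mp (h t hto)
  have h2 := CL.PComp.local_of_pLayerOf_eq_bot h1.1 hT hTt
  rw [inf_eq_right.mpr hC, h1.2, le_bot_iff] at h2
  exact (CL.PComp.fstar_normalizer_eq_iff hT).mpr (CL.PComp.fstar_eq_pCore_iff_pLayerOf.mpr h2)

/-- `O_{3'}(C(x)) = 1` for `x` of order `3`. -/
theorem ChrB.core (h : Smp G p) (M : Ideal AlgInt) (hM : IsPModular 3 M) (χ : IrrCharacter G)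
    (hχ : χ ∈ principalBlock M G) {b : ℕ} (h1 : (χ : G → ℂ) 1 = 2 ^ b)
    (h0 : ∀ g : G, Even (orderOf g) → (χ : G → ℂ) g = 0) {x : G} (hx : orderOf x = 3) :
    CL.PComp.opOf 3 (𝐂₁(x)) = ⊥ := by
  have := Fact.mk Nat.prime_three
  have p5 := h.p5
  have hx1 : x ≠ 1 := by
    rintro rfl
    simp at hx
  have hx3 : x ^ 3 = 1 := hx ▸ pow_orderOf_eq_one x
  have hp3 : ¬ p ∣ 3 := fun hd => by
    have := Nat.le_of_dvd (by norm_num) hd
    omega
  by_contra hne
  obtain ⟨r, hr, hrd⟩ := Nat.exists_prime_and_dvd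
    (fun e => hne (Subgroup.eq_bot_of_card_eq _ e) : #|CL.PComp.opOf 3 (𝐂₁(x))| ≠ 1)
  have hle := CL.PComp.opOf_le 3 (𝐂₁(x))
  have r2 : r = 2 := by
    rcases h.prime_dvd hr (hrd.trans (card_subgroup_dvd_card _)) with e | e | e
    · exact e
    · have := CL.PComp.opOf_coprime 3 (𝐂₁(x))
      rw [e] at hrd
      exact (CL.PComp.coprime_card_iff_not_dvd.1 this hrd).elim
    · exact absurd (e ▸ hrd.trans (card_dvd_of_le hle)) (h.not_dvd_cent hx1 hx3 hp3)
  subst r2
  obtain ⟨v, hv⟩ := exists_prime_orderOf_dvd_card' 2 hrd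
  have hv' : orderOf (v : G) = 2 := by rw [orderOf_coe, hv]
  have e1 := Cfsg.Agent.S0942.result 3 M hM x ⟨1, by rw [hx, pow_one]⟩ v v.2 χ hχ
  have hc : Commute x (v : G) := mem_cent1.1 (hle v.2)
  have e2 : orderOf (x * v) = 6 := by
    rw [hc.orderOf_mul_eq_mul_orderOf_of_coprime (by rw [hx, hv']; norm_num), hx, hv']
  have e3 : (χ : G → ℂ) x = 0 := by
    rw [← e1]
    exact h0 _ (by rw [e2]; decide)
  have e4 := CL.Blk.char_sub_one_mem hM χ.2.isCharacter (x := x) ⟨1, by rw [hx, pow_one]⟩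
  rw [e3, zero_sub, h1] at e4
  have e5 : ((-(2 ^ b) : ℤ) : ℂ) ∈ (CL.Blk.V M).nonunits := by push_cast; exact e4
  rw [CL.Blk.intCast_mem_nonunits_iff hM, dvd_neg] at e5
  have := Int.Prime.dvd_pow' Nat.prime_three e5
  norm_num at this

/-- Local characteristic 3: `O_{3'}(C(x)) = 1` and `C(x)` is solvable for `x` of order `3`. -/
theorem c3_of (h : Smp G p) (M : Ideal AlgInt) (hM : IsPModular 3 M) (χ : IrrCharacter G)
    (hχ : χ ∈ principalBlock M G) {b : ℕ} (h1 : (χ : G → ℂ) 1 = 2 ^ b)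
    (h0 : ∀ g : G, Even (orderOf g) → (χ : G → ℂ) g = 0) : IsOfLocalCharacteristic 3 G := by
  have := Fact.mk Nat.prime_three
  refine ChrB.loc_of_cent h.three_dvd fun x hx => ?_
  have p5 := h.p5
  have hx1 : x ≠ 1 := by
    rintro rfl
    simp at hx
  have := h.solv_cent hx1 (n := 3) (hx ▸ pow_orderOf_eq_one x) fun hd => by
    have := Nat.le_of_dvd (by norm_num) hd
    omega
  exact CL.Comp.fstar_eq_pCore_iff_centralizer.2 (CL.centralizer_pCore_le_of_isSolvable
    (CL.PComp.opOf_eq_bot_iff.1 (ChrB.core h M hM χ hχ h1 h0 hx)))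

end CL.K3
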