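import Cfsg.Agent.INV.K3.Nrm
import Cfsg.Agent.ODD.BG3.FixDim
import Cfsg.Agent.CLAS.Pauli1
import Cfsg.Agent.INV.FusInv
import Cfsg.Agent.INV.ElemAbGL

/-! A Frobenius group of order `3p` in a 2-local subgroup. -/

set_option autoImplicit false
open Subgroup Cfsg CL.MSS CL.BG CL.KM

namespace CL.K3
variable {G : Type*} [Group G] [Finite G] {p : ℕ}

/-- By Wielandt's fixed point formula `|A| = |C_A(u)|³`. -/
theorem e8_lemma (h : Smp G p) (ht : Thin G) {y u : G} (hy : orderOf y = p) (hu : orderOf u = 3)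
    (huy : u ∈ 𝐍(zpowers y)) {A : Subgroup G} (hA : EA 2 A) (hA0 : A ≠ ⊥) (hyA : y ∈ 𝐍(A))
    (huA : u ∈ 𝐍(A)) : p = 7 ∧ #|A| = 8 ∧ ∃ z ∈ A, z ≠ 1 ∧ Commute u z := by
  have := Fact.mk h.pp
  have h5 := h.p5
  obtain ⟨k, hk⟩ := hA.isPGroup.exists_card_eq
  have hyp : ∀ x ∈ zpowers y, x ^ p = 1 := fun x hx => by
    rw [← hy, ← Nat.card_zpowers]
    exact congrArg Subtype.val (pow_card_eq_one' (x := (⟨x, hx⟩ : zpowers y)))
  have hu3 : ∀ x ∈ zpowers u, x ^ 3 = 1 := fun x hx => by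
    rw [← hu, ← Nat.card_zpowers]
    exact congrArg Subtype.val (pow_card_eq_one' (x := (⟨x, hx⟩ : zpowers u)))
  have h1 : ∀ x ∈ A, Commute y x → x = 1 := fun x hx hc =>
    h.fpf2 hy hc (k := 1) (by rw [pow_one, hA.2 x hx])
  have h2 : A ⊓ 𝐂(zpowers y) = ⊥ := (eq_bot_iff_forall _).2 fun x hx =>
    h1 x hx.1 (mem_cent.1 hx.2 y (mem_zpowers y))
  have h3 : A ⊓ 𝐂((zpowers y ⊔ zpowers u : Subgroup G)) = ⊥ := (eq_bot_iff_forall _).2 fun x hx =>
    h1 x hx.1 (mem_cent.1 hx.2 y (mem_sup_left (mem_zpowers y)))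
  have h4 := CL.BG3.wielandt_frobenius (K := zpowers y) (R := zpowers u) (M := A)
    (zpowers_le.2 huy) (fun x hx hx1 => (eq_bot_iff_forall _).2 fun w hw => by
      by_contra hw1
      exact hx1 (h.fpf3 (orderOf_eq_prime (hyp w hw.1) hw1) (mem_cent1.1 hw.2).symm (k := 1)
        (by rw [pow_one, hu3 x hx])))
    (zpowers_le.2 hyA) (zpowers_le.2 huA) (Group.isSolvable_of_comm fun a b =>
      Subtype.ext (hA.1 a a.2 b b.2).eq)
    (by
      rw [hk, Nat.card_zpowers, hy]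
      exact Nat.Coprime.pow_left k ((Nat.coprime_primes Nat.prime_two h.pp).2 (by omega)))
    (by rw [hk, Nat.card_zpowers, hu]; exact Nat.Coprime.pow_left k (by norm_num))
  rw [h2, h3, card_bot, Nat.card_zpowers, hu, one_pow, one_mul, mul_one] at h4
  have h6 := ht.r2 u (A ⊓ 𝐂(zpowers u)) hu (hA.mono inf_le_left)
    fun a ha => mem_cent.1 ha.2 u (mem_zpowers u)
  have h7 : 1 < #|A| := (one_lt_card_iff_ne_bot A).2 hA0
  have h8 : #|(A ⊓ 𝐂(zpowers u) : Subgroup G)| = 2 := by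
    generalize #|(A ⊓ 𝐂(zpowers u) : Subgroup G)| = c at h4 h6
    interval_cases c <;> omega
  rw [h8] at h4
  refine ⟨?_, h4, ?_⟩
  · have h9 := CL.Pauli.card_modEq_cent (r := p) (x := y) (D := A) (fun d hd => conj_mem hyA hd)
      fun d => by rw [hyp y (mem_zpowers y), one_mul, mul_one]
    rw [show A ⊓ 𝐂₁(y) = ⊥ from (eq_bot_iff_forall _).2 fun x hx => h1 x hx.1 (mem_cent1.1 hx.2),
      card_bot, h4] at h9
    exact (Nat.prime_dvd_prime_iff_eq h.pp (by norm_num)).1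
      ((Nat.modEq_iff_dvd' (by norm_num)).1 h9.symm)
  · obtain ⟨z, hz, hz1⟩ := (A ⊓ 𝐂(zpowers u)).bot_or_exists_ne_one.resolve_left fun e => by
      rw [e, card_bot] at h8; omega
    exact ⟨z, hz.1, hz1, mem_cent.1 hz.2 u (mem_zpowers u)⟩

namespace E8

theorem solv12 {H : Type*} [Group H] [Finite H] (h : Nat.card H ∣ 12) : Group.IsSolvable H :=
  CL.Char.isSolvable_of_primes_subset_pair Nat.prime_two Nat.prime_three fun r hr hd => by
    have h1 := hd.trans h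
    have h2 := Nat.le_of_dvd (by norm_num) h1
    have h3 := hr.two_le
    interval_cases r <;> simp_all (config := {decide := true})

theorem solv84 {H : Type*} [Group H] [Finite H] (h : Nat.card H ∣ 84) : Group.IsSolvable H := by
  have := Fact.mk (show Nat.Prime 7 by norm_num)
  obtain ⟨P⟩ : Nonempty (Sylow 7 H) := inferInstance
  have h1 : (P : Subgroup H).index ∣ 12 :=
    (Nat.Coprime.symm ((Nat.Prime.coprime_iff_not_dvd Fact.out).2 P.not_dvd_index)).dvd_of_dvd_mul_left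
      ((index_dvd_card _).trans h)
  have h2 : Nat.card (Sylow 7 H) = 1 := by
    have h3 := P.card_dvd_index.trans h1
    have h4 := card_sylow_modEq_one 7 H
    have h5 := Nat.le_of_dvd (by norm_num) h3
    unfold Nat.ModEq at h4
    generalize Nat.card (Sylow 7 H) = n at h3 h4 h5
    interval_cases n <;> simp_all
  have := (Nat.card_eq_one_iff_unique.1 h2).1
  have := P.normal_of_subsingleton
  have := P.isPGroup'.isNilpotent
  exact (Group.isSolvable_iff_subgroup_quotient (P : Subgroup H)).2 ⟨inferInstance, solv12 h1⟩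

theorem omZ_ne_bot {Q : Subgroup G} (hQ : IsPGroup 2 Q) (h0 : Q ≠ ⊥) : omZ Q ≠ ⊥ := by
  have := (nontrivial_iff_ne_bot Q).2 h0
  have := hQ.center_nontrivial
  obtain ⟨⟨x, hx⟩, hx1⟩ := exists_ne (1 : center Q)
  have h1 : (x : G) ≠ 1 := fun e => hx1 (Subtype.ext (Subtype.ext e))
  obtain ⟨k, hk⟩ := pg_elem hQ x.2
  obtain ⟨j, h2, h3⟩ := exists_pow_order h1 hk
  refine fun e => h2 (mem_bot.1 (e ▸ ⟨pow_mem x.2 j, pow_mem (mem_cent.2 fun s hs => ?_) j, ?_⟩))
  · exact congrArg Subtype.val (mem_center_iff.1 hx ⟨s, hs⟩)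
  · rwa [← pow_two]

end E8

/-- A nonsolvable maximal 2-local subgroup containing a Frobenius group of order `3p`. -/
theorem l3d_of (h : Smp G p) (c2 : IsCharacteristicTwoType G) (ht : Thin G) {M : Subgroup G}
    (hM : IsMaximalTwoLocal M) (hns : ¬ Group.IsSolvable M) {y u : G} (hyM : y ∈ M) (huM : u ∈ M)
    (hy : orderOf y = p) (hu : orderOf u = 3) (huy : u ∈ 𝐍(zpowers y)) :
    ∃ (V : Subgroup G) (z : G), L3D V y u z ∧ M = 𝐍(V) := by
  obtain ⟨T, hT, hT0, hMT⟩ := hM.1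
  have hc : M ⊓ 𝐂(pCoreOf 2 M) ≤ pCoreOf 2 M := hMT ▸ char_two c2 hT hT0
  have hQ : IsPGroup 2 (pCoreOf 2 M) := oP_isPGroup M
  have hQ0 : pCoreOf 2 M ≠ ⊥ := fun e =>
    hT0 (le_bot_iff.1 (e ▸ le_oP hT (hMT ▸ le_normalizer) hMT.le))
  set V := omZ (pCoreOf 2 M) with hV
  have hV0 : V ≠ ⊥ := E8.omZ_ne_bot hQ hQ0
  have hVe : EA 2 V := omZ_ea _
  have hN : 𝐍(V) = M := hM.2 _ ⟨V, hVe.isPGroup, hV0, rfl⟩ fun g hg => omZ_norm _ (oP_normal M hg)
  obtain ⟨h7, h8, z, hz, hz1, huz⟩ := e8_lemma h ht hy hu huy hVe hV0 (hN ▸ hyM) (hN ▸ huM)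
  have hC : 𝐂(V) = pCoreOf 2 M := by
    refine le_antisymm (h.le_oP hc (hy ▸ M.orderOf_dvd_natCard hyM) (hN ▸ centralizer_le_normalizer _)
      (hN ▸ normalizer_le_normalizer_centralizer V) fun hd => ?_)
      fun x hx => mem_cent.2 fun v hv => (mem_cent.1 hv.2.1 x hx).symm
    refine h.not_dvd_cent hz1 (hVe.2 z hz) (by rw [h7]; norm_num) (hd.trans (card_dvd_of_le ?_))
    exact fun x hx => mem_cent1.2 (mem_cent.1 hx z hz)
  refine ⟨V, z, ⟨hVe, h8, hN ▸ hM, by rw [hC, hN], hN ▸ hyM, hN ▸ huM, hy.trans h7, hu, hz, hz1, huz,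
    fun A hA hVA hNA => ?_, ?_⟩, hN.symm⟩
  · obtain ⟨-, h9, -⟩ := e8_lemma h ht hy hu huy hA (fun e => hV0 (le_bot_iff.1 (e ▸ hVA)))
      (hNA (hN ▸ hyM)) (hNA (hN ▸ huM))
    exact (eq_of_le_of_card_ge hVA (by rw [h8, h9])).symm
  · have h1 : (𝐂(V)).relIndex (𝐍(V)) ∣ 168 := by
      obtain ⟨f, hf⟩ := CL.EAGL.exists_hom_gl (V := V) (p := 2) (n := 3)
        (fun x y => Subtype.ext (hVe.1 x x.2 y y.2).eq) (fun x => Subtype.ext (hVe.2 x x.2)) h8.le
      refine (CL.FusInv.relIndex_dvd_card_mulAut V).trans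
        ((Subgroup.card_dvd_of_injective f hf).trans (dvd_of_eq ?_))
      rw [Matrix.card_GL_field]
      simp [Fin.prod_univ_three]
    refine card_eq_mul (centralizer_le_normalizer _) ?_
    rw [hC, hN] at h1 ⊢
    have h2 := card_eq_mul (oP_le (p := 2) M) rfl
    obtain ⟨k, hk⟩ := hQ.exists_card_eq
    have h3 : 3 ∣ (pCoreOf 2 M).relIndex M := by
      have := hu ▸ M.orderOf_dvd_natCard huM
      rw [h2, hk] at this
      exact (Nat.Coprime.pow_right k (by norm_num)).dvd_of_dvd_mul_right this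
    have h4 : 7 ∣ (pCoreOf 2 M).relIndex M := by
      have := (hy.trans h7) ▸ M.orderOf_dvd_natCard hyM
      rw [h2, hk] at this
      exact (Nat.Coprime.pow_right k (by norm_num)).dvd_of_dvd_mul_right this
    by_contra h5
    have h6 : (pCoreOf 2 M).relIndex M ∣ 84 := by
      have h9 := Nat.le_of_dvd (by norm_num) h1
      generalize (pCoreOf 2 M).relIndex M = r at h1 h3 h4 h5 h9
      obtain ⟨s, rfl⟩ : 21 ∣ r := Nat.Coprime.mul_dvd_of_dvd_of_dvd (by norm_num) h3 h4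
      have : s ≤ 8 := by omega
      interval_cases s <;> simp_all
    rw [relIndex, oP_subgroupOf] at h6
    have := (oP_pCore_isPGroup (p := 2) (G := M)).isNilpotent
    exact hns ((Group.isSolvable_iff_subgroup_quotient (pCore 2 M)).2
      ⟨inferInstance, E8.solv84 h6⟩)

end CL.K3
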