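import Cfsg.Agent.INV.K3.Nrm
import Cfsg.Agent.PERM.R3F1
import Cfsg.Agent.FGS.CIT1
import Cfsg.Agent.CLAS.Pauli1
import Cfsg.Agent.PLOC.PFrattini

/-! Elements of order 3 without fixed points. -/

set_option autoImplicit false
open Subgroup Cfsg CL.MSS CL.BG CL.KM

namespace CL.K3
variable {G : Type*} [Group G] [Finite G] {p : ℕ}

namespace Fp

theorem sq_lt {X : Subgroup G} (hX : IsPGroup 2 X) (h0 : X ≠ ⊥) :
    closure {z | ∃ y ∈ X, y ^ 2 = z} < X := by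
  have := (nontrivial_iff_ne_bot X).2 h0
  refine lt_of_le_of_lt (b := (frattini X).map X.subtype) ((closure_le _).2 ?_)
    (lt_of_le_of_ne (map_subtype_le _) fun e => CL.PG.frattini_ne_top (P := X) ?_)
  · rintro _ ⟨y, hy, rfl⟩
    exact CL.PG.pow_mem_frattini_map hX hy
  · apply map_injective X.subtype_injective
    rw [e, ← MonoidHom.range_eq_map, range_subtype]

theorem arith {k : ℕ} (h1 : 2 ^ k ≡ 1 [MOD p]) (h3 : 3 ∣ 2 ^ k - 2)
    (h9 : p = 5 ∨ p = 17 ∨ (p = 7 ∧ 9 ∣ 2 ^ k - 2)) (h2 : 2 ≤ 2 ^ k) : False := by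
  have e : ∀ m : ℕ, 2 ^ 24 ≡ 1 [MOD m] → 2 ^ k ≡ 2 ^ (k % 24) [MOD m] := fun m hm => by
    conv_lhs => rw [← Nat.div_add_mod k 24, pow_add, pow_mul]
    simpa using (hm.pow (k / 24)).mul_right (2 ^ (k % 24))
  have e3 := ((Nat.modEq_iff_dvd' h2).2 h3).trans (e 3 (by decide))
  have hk : k % 24 < 24 := Nat.mod_lt _ (by norm_num)
  rcases h9 with rfl | rfl | ⟨rfl, h9⟩
  · have e5 := h1.symm.trans (e 5 (by decide))
    generalize k % 24 = j at *
    interval_cases j <;> simp_all (config := {decide := true})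
  · have e5 := h1.symm.trans (e 17 (by decide))
    generalize k % 24 = j at *
    interval_cases j <;> simp_all (config := {decide := true})
  · have e5 := h1.symm.trans (e 7 (by decide))
    have e9 := ((Nat.modEq_iff_dvd' h2).2 h9).trans (e 9 (by decide))
    generalize k % 24 = j at *
    interval_cases j <;> simp_all (config := {decide := true})

theorem card_mul_le {A B Q : Subgroup G} (hA : A ≤ Q) (hB : B ≤ Q) (h : A ⊓ B = ⊥) :
    #|A| * #|B| ≤ #|Q| := by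
  rw [← Nat.card_prod]
  refine Nat.card_le_card_of_injective (fun z => ⟨z.1 * z.2, mul_mem (hA z.1.2) (hB z.2.2)⟩)
    fun z z' e => ?_
  have h1 : (z.1 : G) * z.2 = z'.1 * z'.2 := congrArg Subtype.val e
  have h2 : (z'.1 : G)⁻¹ * z.1 = z'.2 * (z.2 : G)⁻¹ := by
    rw [inv_mul_eq_iff_eq_mul, ← mul_assoc, ← h1, mul_inv_cancel_right]
  have h3 : (z'.1 : G)⁻¹ * z.1 = 1 := mem_bot.1 (h ▸ mem_inf.2
    ⟨mul_mem (inv_mem z'.1.2) z.1.2, h2 ▸ mul_mem z'.2.2 (inv_mem z.2.2)⟩)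
  exact Prod.ext (Subtype.ext (inv_mul_eq_one.1 h3).symm)
    (Subtype.ext (mul_inv_eq_one.1 (h2 ▸ h3)).symm)

end Fp

/-- Elements of order three act without fixed points. -/
theorem fpf_three (h : Smp G p) (ht : Thin G) {Q M : Subgroup G} (hQ : IsPGroup 2 Q) (hQ0 : Q ≠ ⊥)
    (hM : M ≤ 𝐍(Q)) (hp : p ∣ #|M|) (h9 : p = 5 ∨ p = 17 ∨ (p = 7 ∧ 9 ∣ #|M|)) :
    ∀ u ∈ M, orderOf u = 3 → ∀ x ∈ Q, Commute u x → x = 1 := by
  intro u hu hu3
  have := Fact.mk h.pp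
  obtain ⟨y, hy⟩ := exists_prime_orderOf_dvd_card' p hp
  have hy' : orderOf (y : G) = p := by rw [orderOf_coe, hy]
  have hu3' : u ^ 3 = 1 := hu3 ▸ pow_orderOf_eq_one u
  obtain ⟨T, hT, huT⟩ := exists_sylIn_ge (p := 3) (isPGroup_zpowers (k := 1) (by rwa [pow_one]))
    (zpowers_le.2 hu)
  have huT' := huT (mem_zpowers u)
  have hcyc := ht.cyc T Q hT.pgroup hQ hQ0 (hT.le.trans hM)
  suffices H : ∀ X : Subgroup G, X ≤ Q → M ≤ 𝐍(X) → ∀ x ∈ X, Commute u x → x = 1 from H Q le_rfl hM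
  intro X
  induction X using WellFoundedLT.induction with
  | ind X ih =>
  intro hXQ hMX x hx hux
  by_contra hx1
  have hX := hQ.to_le hXQ
  have hX0 : X ≠ ⊥ := fun e => hx1 (mem_bot.1 (e ▸ hx))
  have h1 := ih _ (Fp.sq_lt hX hX0) ((Fp.sq_lt hX hX0).le.trans hXQ) fun g hg => by
    apply mem_normalizer_of_cj_le
    rw [cj_closure]
    apply Subgroup.closure_mono
    rintro _ ⟨_, ⟨z, hz, rfl⟩, rfl⟩
    exact ⟨_, conj_mem (hMX hg) hz, conj_pow⟩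
  have h2 : ∀ a ∈ X ⊓ 𝐂₁(u), a ^ 2 = 1 := fun a ha =>
    h1 _ (subset_closure ⟨a, ha.1, rfl⟩) ((mem_cent1.1 ha.2).pow_right 2)
  have h3 : EA 2 (X ⊓ 𝐂₁(u)) := ⟨fun a ha b hb => by
    have e1 := h2 a ha
    have e2 := h2 b hb
    have e3 := h2 _ (mul_mem ha hb)
    rw [pow_two, ← inv_eq_iff_mul_eq_one] at e1 e2 e3
    change a * b = b * a
    rw [← e3, mul_inv_rev, e1, e2], h2⟩
  have h4 := ht.r2 u _ hu3 h3 fun a ha => mem_cent1.1 ha.2
  have h5 : 1 < #|(X ⊓ 𝐂₁(u) : Subgroup G)| := (one_lt_card_iff_ne_bot _).2 fun e =>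
    hx1 (mem_bot.1 (e ▸ mem_inf.2 ⟨hx, mem_cent1.2 hux⟩))
  have h6 : #|T| ∣ #|X| - 2 := by
    have := CL.R3F.card_dvd_ncard_of_conj T ((X : Set G) \ (X ⊓ 𝐂₁(u) : Subgroup G))
      (fun g hg z hz => ⟨conj_mem (hMX (hT.le hg)) hz.1, fun e => hz.2 (mem_inf.2 ⟨hz.1, by
        have e1 : Commute g u :=
          congrArg Subtype.val (hcyc.isMulCommutative.is_comm.comm ⟨g, hg⟩ ⟨u, huT'⟩)
        have e2 := comm_conj (g := g⁻¹) (mem_cent1.1 (mem_inf.1 e).2)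
        rw [e1.inv_left.eq] at e2
        exact mem_cent1.2 (by simpa [mul_assoc] using e2)⟩)⟩)
      fun g hg z hz e => by
        by_contra hg1
        obtain ⟨k, hk⟩ := pg_elem hT.pgroup hg
        obtain ⟨j, e1, e2⟩ := exists_pow_order hg1 hk
        obtain ⟨i, rfl⟩ := mem_zpowers_iff.1 (CL.ES.mem_zpowers_of_isCyclic hcyc (pow_mem hg j) huT'
          (by rwa [orderOf_eq_prime e2 e1]))
        exact hz.2 (mem_inf.2 ⟨hz.1, mem_cent1.2 (((show Commute g z from e).pow_left j).zpow_left i)⟩)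
    rwa [Set.ncard_sdiff (SetLike.coe_subset_coe.2 inf_le_left), ← Nat.card_coe_set_eq,
      ← Nat.card_coe_set_eq, show Nat.card ((X ⊓ 𝐂₁(u) : Subgroup G) : Set G) = 2 from
        le_antisymm h4 h5] at this
  have h7 := CL.Pauli.card_modEq_cent (r := p) (x := (y : G)) (D := X)
    (fun d hd => conj_mem (hMX y.2) hd) fun d => by rw [← hy', pow_orderOf_eq_one, one_mul, mul_one]
  rw [show X ⊓ 𝐂₁((y : G)) = ⊥ from (eq_bot_iff_forall _).2 fun z hz => by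
    obtain ⟨k, hk⟩ := pg_elem hX hz.1
    exact h.fpf2 hy' (mem_cent1.1 hz.2) hk, card_bot] at h7
  obtain ⟨k, hk⟩ := hX.exists_card_eq
  have h8 : 1 < #|X| := (one_lt_card_iff_ne_bot _).2 hX0
  rw [hk] at h6 h7 h8
  refine Fp.arith h7 ((hu3 ▸ T.orderOf_dvd_natCard huT').trans h6) ?_ h8
  rcases h9 with e | e | ⟨e, e'⟩
  · exact Or.inl e
  · exact Or.inr (Or.inl e)
  · refine Or.inr (Or.inr ⟨e, Dvd.dvd.trans ?_ h6⟩)
    rw [hT.card_eq_pow_factorization]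
    exact pow_dvd_pow 3 ((Nat.prime_three.pow_dvd_iff_le_factorization Nat.card_pos.ne').1
      (show 3 ^ 2 ∣ _ from e'))

/-- `|C_Q(t)|² ≤ |Q|` for `t ∈ M \ Q`. -/
theorem two_le (h : Smp G p) {M : Subgroup G} (hQ : EA 2 (pCoreOf 2 M))
    (fpf : ∀ u ∈ M, orderOf u = 3 → ∀ x ∈ pCoreOf 2 M, Commute u x → x = 1) {t : G} (ht : t ∈ M)
    (htQ : t ∉ pCoreOf 2 M) :
    #|(pCoreOf 2 M ⊓ 𝐂₁(t) : Subgroup G)| ^ 2 ≤ #|pCoreOf 2 M| := by
  obtain ⟨g, hg, hn⟩ := CL.CIT.exists_not_isPGroup ht htQ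
  set H := closure ({t, g * t * g⁻¹} : Set G) with hH
  have hHM : H ≤ M := (closure_le _).2 (Set.pair_subset ht (mul_mem (mul_mem hg ht) (inv_mem hg)))
  obtain ⟨r, hr, hd, hr2⟩ : ∃ r : ℕ, r.Prime ∧ r ∣ #|H| ∧ r ≠ 2 := by
    by_contra! hc
    exact hn (IsPGroup.of_card (Nat.eq_prime_pow_of_unique_prime_dvd Nat.card_pos.ne'
      fun {d} h1 h2 => hc d h1 h2))
  have := Fact.mk hr
  obtain ⟨x, hx⟩ := exists_prime_orderOf_dvd_card' r hd
  have hx' : orderOf (x : G) = r := by rw [orderOf_coe, hx]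
  have h1 : (pCoreOf 2 M ⊓ 𝐂₁(t)) ⊓ (pCoreOf 2 M ⊓ 𝐂₁(g * t * g⁻¹)) = ⊥ :=
    (eq_bot_iff_forall _).2 fun z hz => by
      have h2 : Commute (x : G) z := by
        have : H ≤ 𝐂₁(z) := (closure_le _).2 (Set.pair_subset
          (mem_cent1.2 (mem_cent1.1 hz.1.2).symm) (mem_cent1.2 (mem_cent1.1 hz.2.2).symm))
        exact (mem_cent1.1 (this x.2)).symm
      rcases h.prime_dvd hr (hd.trans (card_subgroup_dvd_card H)) with e | e | e
      · exact absurd e hr2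
      · exact fpf x (hHM x.2) (hx'.trans e) z hz.1.1 h2
      · exact h.fpf2 (hx'.trans e) h2 (k := 1) (by rw [pow_one, hQ.2 z hz.1.1])
  have h2 := Fp.card_mul_le inf_le_left inf_le_left h1
  rwa [← cj_centralizer_singleton, ← cj_eq_of_mem_normalizer (oP_normal (p := 2) M hg), ← cj_inf,
    card_cj, cj_eq_of_mem_normalizer (oP_normal (p := 2) M hg), ← pow_two] at h2

end CL.K3
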