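import Cfsg.Agent.INV.K3.Nrm
import Cfsg.Agent.KSG.AltAut

/-! `M / Q` embeds in `Aut(L / Q)`. -/

set_option autoImplicit false
open Subgroup Cfsg CL.MSS CL.BG CL.KM

namespace CL.K3
variable {G : Type*} [Group G] [Finite G] {p : ℕ}

omit [Finite G] in
theorem Soc.ker_eq {K : Type*} [Group K] {M L Q : Subgroup G} {φ : L →* K} (s : Soc M L Q φ) :
    Q.subgroupOf L = φ.ker := by
  ext x
  rw [mem_subgroupOf, MonoidHom.mem_ker, s.ker]

omit [Finite G] in
theorem Soc.relIndex_QL {K : Type*} [Group K] {M L Q : Subgroup G} {φ : L →* K} (s : Soc M L Q φ) :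
    Q.relIndex L = Nat.card K := by
  rw [relIndex, s.ker_eq, index_ker, MonoidHom.range_eq_top.2 s.surj, card_top]

set_option linter.unusedSectionVars false in
/-- ρ x is the automorphism φ l ↦ φ (x l x⁻¹). -/
theorem Soc.rho {K : Type*} [Group K] {M L Q : Subgroup G} {φ : L →* K} (s : Soc M L Q φ) :
    ∃ ρ : M →* MulAut K, (∀ (x : M) (l : L), ρ x (φ l) = φ ⟨x * l * (x : G)⁻¹, conj_mem (s.nL x.2) l.2⟩) ∧
      ∀ x : M, ρ x = 1 ↔ (x : G) ∈ Q := by
  have hn : (Q.subgroupOf L).Normal := s.ker_eq ▸ inferInstance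
  let e : (L ⧸ Q.subgroupOf L) ≃* K :=
    (QuotientGroup.quotientMulEquivOfEq s.ker_eq).trans
      (QuotientGroup.quotientKerEquivOfSurjective φ s.surj)
  have he : ∀ l : L, e (l : L ⧸ Q.subgroupOf L) = φ l := fun l => rfl
  have key : ∀ (x : M) (l : L),
      ((MulAut.congr e).toMonoidHom.comp (CL.sectionAut M L Q s.nL s.nQ)) x (φ l) =
        φ ⟨x * l * (x : G)⁻¹, conj_mem (s.nL x.2) l.2⟩ := fun x l => by
    change e (CL.sectionAut M L Q s.nL s.nQ x (e.symm (φ l))) = _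
    rw [← he l, e.symm_apply_apply, CL.sectionAut_mk, he]
  refine ⟨_, key, fun x => ⟨fun h => s.faith x x.2 fun l hl => ?_, fun h => ?_⟩⟩
  · have h1 := key x ⟨l, hl⟩
    rw [h, MulAut.one_apply, eq_comm, ← mul_inv_eq_one, ← map_inv, ← map_mul, s.ker] at h1
    exact h1
  · ext k
    obtain ⟨l, rfl⟩ := s.surj k
    rw [key, MulAut.one_apply, ← mul_inv_eq_one, ← map_inv, ← map_mul, s.ker]
    have := Q.mul_mem h (conj_mem (s.nQ (s.LM l.2)) (Q.inv_mem h))
    simpa [mul_assoc] using this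

/-- |M| / |Q| divides |Aut K|, and |L| = |K| |Q|. -/
theorem Soc.relIndex_dvd {K : Type*} [Group K] {M L Q : Subgroup G} {φ : L →* K} (s : Soc M L Q φ)
    {n : ℕ} (h : Nat.card (MulAut K) ∣ n * Nat.card K) : L.relIndex M ∣ n := by
  obtain ⟨ρ, -, hρ⟩ := s.rho
  have e1 : Q.subgroupOf M = ρ.ker := by
    ext x
    rw [mem_subgroupOf, MonoidHom.mem_ker, hρ]
  have e2 : Q.relIndex M ∣ Nat.card (MulAut K) := by
    rw [relIndex, e1, index_ker]
    exact card_subgroup_dvd_card _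
  have e3 := relIndex_mul_relIndex Q L M s.QL s.LM
  have : Finite K := Finite.of_surjective φ s.surj
  rw [← e3, s.relIndex_QL] at e2
  have e4 := e2.trans h
  rw [mul_comm n] at e4
  exact Nat.dvd_of_mul_dvd_mul_left Nat.card_pos e4

namespace Psi
open Equiv

/-- the four-group fixing `4` -/
def V4 : Subgroup (Perm (Fin 5)) where
  carrier := {σ | σ = 1 ∨ σ = swap 0 1 * swap 2 3 ∨ σ = swap 0 2 * swap 1 3 ∨ σ = swap 0 3 * swap 1 2}
  one_mem' := Or.inl rfl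
  mul_mem' := by
    rintro a b (rfl | rfl | rfl | rfl) (rfl | rfl | rfl | rfl) <;>
      simp only [Set.mem_ofPred_eq] <;> decide
  inv_mem' := by
    rintro a (rfl | rfl | rfl | rfl) <;> simp only [Set.mem_ofPred_eq] <;> decide

theorem mem_V4 (σ : Perm (Fin 5)) : σ ∈ V4 ↔ σ 4 = 4 ∧ Perm.sign σ = 1 ∧ σ * σ = 1 := by
  change (σ = 1 ∨ σ = swap 0 1 * swap 2 3 ∨ σ = swap 0 2 * swap 1 3 ∨ σ = swap 0 3 * swap 1 2) ↔ _
  revert σ
  decide +kernel

theorem card_V4 : Nat.card V4 = 4 := by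
  have : (V4 : Set (Perm (Fin 5))) = ({1, swap 0 1 * swap 2 3, swap 0 2 * swap 1 3,
      swap 0 3 * swap 1 2} : Finset (Perm (Fin 5))) := by
    ext σ
    simp only [Finset.coe_insert, Finset.coe_singleton, Set.mem_insert_iff, Set.mem_singleton_iff]
    rfl
  change Nat.card (V4 : Set (Perm (Fin 5))) = 4
  rw [this, Finset.coe_sort_coe, Nat.card_eq_fintype_card, Fintype.card_coe]
  decide

theorem V4_le : V4 ≤ alternatingGroup (Fin 5) := fun σ h =>
  Perm.mem_alternatingGroup.2 ((mem_V4 σ).1 h).2.1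

theorem relIndex_V4 : V4.relIndex (alternatingGroup (Fin 5)) = 15 := by
  have h1 := two_mul_nat_card_alternatingGroup (α := Fin 5)
  have h2 : Nat.card (Perm (Fin 5)) = 120 := by
    rw [Nat.card_eq_fintype_card, Fintype.card_perm]
    rfl
  have h3 := (V4.subgroupOf (alternatingGroup (Fin 5))).card_mul_index
  rw [Nat.card_congr (subgroupOfEquivOfLe V4_le).toEquiv, card_V4] at h3
  rw [relIndex]
  omega

end Psi

/-- ρ x is conjugation by a unique σ = ψ x ∈ S₅. -/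
theorem Soc.psi {M L Q : Subgroup G} {φ : L →* alternatingGroup (Fin 5)} (s : Soc M L Q φ)
    (hQ : IsPGroup 2 Q) (hne : L ≠ M) :
    ∃ (ψ : M →* Equiv.Perm (Fin 5)) (J : Subgroup G), Function.Surjective ψ ∧
      (∀ x : M, ψ x = 1 ↔ (x : G) ∈ Q) ∧ SylIn 2 J L ∧
      ∀ x : M, (x : G) ∈ J ↔ ψ x 4 = 4 ∧ Equiv.Perm.sign (ψ x) = 1 ∧ ψ x * ψ x = 1 := by
  obtain ⟨ρ, h1, h2⟩ := s.rho
  have h4 : 4 ≤ Fintype.card (Fin 5) := by simp
  choose f hf using CL.KSG.exists_perm_of_mulAut h4 (by simp)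
  have uniq : ∀ (a : MulAut (alternatingGroup (Fin 5))) (σ : Equiv.Perm (Fin 5)),
      (∀ g, (a g).1 = σ * g.1 * σ⁻¹) → f a = σ := fun a σ h => by
    have := CL.KSG.eq_one_of_commute_alt h4 (σ := σ⁻¹ * f a) fun g hg => by
      have e := (hf a ⟨g, hg⟩).symm.trans (h ⟨g, hg⟩)
      simp only at e
      calc σ⁻¹ * f a * g = σ⁻¹ * (f a * g * (f a)⁻¹) * f a := by group
        _ = g * (σ⁻¹ * f a) := by rw [e]; group
    exact (inv_mul_eq_one.1 this).symm
  let F : MulAut (alternatingGroup (Fin 5)) →* Equiv.Perm (Fin 5) := MonoidHom.mk' f fun a b =>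
    uniq _ _ fun g => by rw [MulAut.mul_apply, hf, hf]; group
  have hF : ∀ a, F a = f a := fun _ => rfl
  let ψ := F.comp ρ
  have hψ : ∀ x, ψ x = f (ρ x) := fun _ => rfl
  have k1 : ∀ x : M, ψ x = 1 ↔ (x : G) ∈ Q := fun x => by
    rw [← h2]
    refine ⟨fun h => ?_, fun h => by rw [hψ, h, ← hF, map_one]⟩
    ext g : 1
    refine Subtype.ext ?_
    rw [hf, ← hψ, h]
    simp
  have k2 : ∀ l : L, ψ ⟨l, s.LM l.2⟩ = (φ l).1 := fun l => uniq _ _ fun g => by
    obtain ⟨m, rfl⟩ := s.surj g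
    rw [h1]
    have : (⟨(l : G) * m * (l : G)⁻¹, conj_mem (s.nL (s.LM l.2)) m.2⟩ : L) = l * m * l⁻¹ := rfl
    simp only at this ⊢
    rw [this, map_mul, map_mul, map_inv]
    rfl
  have k3 : ∀ x : M, ψ x ∈ alternatingGroup (Fin 5) ↔ (x : G) ∈ L := fun x => by
    refine ⟨fun h => ?_, fun h => ?_⟩
    · obtain ⟨l, hl⟩ := s.surj ⟨_, h⟩
      have e : ψ (x * (⟨l, s.LM l.2⟩ : M)⁻¹) = 1 := by
        rw [map_mul, map_inv, k2, hl, mul_inv_cancel]
      have := L.mul_mem (s.QL ((k1 _).1 e)) l.2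
      simpa using this
    · have := k2 ⟨x, h⟩
      simp only at this
      rw [this]
      exact (φ _).2
  have k4 : Function.Surjective ψ := by
    obtain ⟨x, hx, hxL⟩ := SetLike.exists_of_lt (lt_of_le_of_ne s.LM hne)
    have a1 : ∀ σ ∈ alternatingGroup (Fin 5), σ ∈ ψ.range := fun σ hσ => by
      obtain ⟨l, hl⟩ := s.surj ⟨σ, hσ⟩
      exact ⟨⟨l, s.LM l.2⟩, by rw [k2, hl]⟩
    intro σ
    by_cases hσ : σ ∈ alternatingGroup (Fin 5)
    · exact a1 σ hσ
    · have a2 : ψ ⟨x, hx⟩ ∉ alternatingGroup (Fin 5) := fun h => hxL ((k3 _).1 h)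
      have a3 : σ * (ψ ⟨x, hx⟩)⁻¹ ∈ alternatingGroup (Fin 5) := by
        rw [Equiv.Perm.mem_alternatingGroup] at hσ a2 ⊢
        rw [map_mul, map_inv, (Int.units_eq_one_or _).resolve_left hσ,
          (Int.units_eq_one_or _).resolve_left a2]
        simp
      have := ψ.range.mul_mem (a1 _ a3) ⟨⟨x, hx⟩, rfl⟩
      rwa [inv_mul_cancel_right] at this
  have k5 : ∀ x : M, (x : G) ∈ (Psi.V4.comap ψ).map M.subtype ↔ ψ x ∈ Psi.V4 := fun x =>
    mem_map_iff_mem (f := M.subtype) M.subtype_injective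
  refine ⟨ψ, (Psi.V4.comap ψ).map M.subtype, k4, k1, ?_, fun x => (k5 x).trans (Psi.mem_V4 _)⟩
  have k6 : L.subgroupOf M = (alternatingGroup (Fin 5)).comap ψ := by
    ext x
    rw [mem_subgroupOf, mem_comap, k3]
  refine sylIn_of_not_dvd_relIndex ?_ ?_ ?_
  · rintro ⟨_, x, hx, rfl⟩
    have e : ψ (x * x) = 1 := by rw [map_mul]; exact ((Psi.mem_V4 _).1 hx).2.2
    obtain ⟨k, hk⟩ := pg_elem hQ ((k1 _).1 e)
    refine ⟨k + 1, Subtype.ext ?_⟩
    rw [pow_succ', pow_mul, sq]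
    exact hk
  · rintro _ ⟨x, hx, rfl⟩
    exact (k3 x).1 (Psi.V4_le hx)
  · rw [← relIndex_subgroupOf s.LM, k6, subgroupOf, comap_map_eq_self_of_injective M.subtype_injective,
      relIndex_comap, map_comap_eq_self_of_surjective k4, Psi.relIndex_V4]
    norm_num

end CL.K3
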