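import Cfsg.Agent.INV.K3.Prim
import Cfsg.Agent.INV.FusInv
import Cfsg.Agent.INV.EqOrd.PSL
import Cfsg.Agent.PERM.SpecSL2
import Cfsg.Agent.PLOC.Symplectic
import Cfsg.Agent.S0243
import Cfsg.Agent.S0252
import Cfsg.Agent.S0280

/-! The groups of the list with cyclic Sylow 3-subgroups and no Frobenius subgroup of order `3p`. -/

set_option autoImplicit false
open Subgroup Cfsg CL.MSS CL.BG CL.KM

namespace CL.K3

namespace SK

theorem count {K : Type*} [Group K] [Finite K] {p : ℕ} (h : Smp K p)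
    (h3 : ∀ y u : K, orderOf y = p → orderOf u = 3 → u ∉ 𝐍(zpowers y)) :
    ∃ n e : ℕ, n ≡ 1 [MOD p] ∧ e ∣ p - 1 ∧ ¬ 3 ∣ e ∧ Nat.card K = e * p * n := by
  have := Fact.mk h.pp
  obtain ⟨y, hy⟩ := exists_prime_orderOf_dvd_card' p h.dvd
  have hc : #|zpowers y| = p := by rw [Nat.card_zpowers, hy]
  have hP : IsPGroup p (zpowers y) := IsPGroup.of_card (n := 1) (by rw [hc, pow_one])
  have hi : ¬ p ∣ (zpowers y).index := fun hd => h.not_dvd h.pp h.pp h.p5 h.p5 (by
    rw [← card_mul_index (zpowers y), hc]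
    exact Nat.mul_dvd_mul_left p hd)
  have h1 := CL.FusInv.relIndex_dvd_card_mulAut (zpowers y)
  have h2 : 𝐂(zpowers y) = zpowers y := by
    rw [zpowers_eq_closure, centralizer_closure, h.cent y hy, zpowers_eq_closure]
  rw [h2, IsCyclic.card_mulAut, hc, Nat.totient_prime h.pp] at h1
  have h4 := card_eq_mul (le_normalizer : zpowers y ≤ 𝐍(zpowers y)) rfl
  rw [hc] at h4
  refine ⟨Nat.card (Sylow p K), _, card_sylow_modEq_one p K, h1, fun hd => ?_, ?_⟩
  · obtain ⟨u, hu⟩ := exists_prime_orderOf_dvd_card' (G := 𝐍(zpowers y)) 3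
      (h4 ▸ Dvd.dvd.mul_right hd p)
    exact h3 y u hy (by rw [orderOf_coe, hu]) u.2
  · rw [← h4, (hP.toSylow hi).card_eq_index_normalizer]
    exact (card_mul_index _).symm

/-- no `E₉` -/
def Two (K : Type*) [Group K] : Prop :=
  ∀ x y : K, x ^ 3 = 1 → x ≠ 1 → y ^ 3 = 1 → x * y = y * x → y = 1 ∨ y = x ∨ y = x * x

theorem two_of {K H : Type*} [Group K] [Finite K] [Group H]
    (cyc : ∀ T : Subgroup K, IsPGroup 3 T → IsCyclic T) (e : K ≃* H) : Two H := by
  intro x y hx hx1 hy hc
  obtain ⟨x, rfl⟩ := e.surjective x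
  obtain ⟨y, rfl⟩ := e.surjective y
  rw [← map_pow, e.map_eq_one_iff] at hx hy
  rw [Ne, e.map_eq_one_iff] at hx1
  rw [← map_mul, ← map_mul, e.apply_eq_iff_eq] at hc
  have h0 : orderOf x = 3 := orderOf_eq_prime hx hx1
  have h1 : EA 3 (closure ({x, y} : Set K)) := ea_closure _ (by
    rintro a (rfl | rfl) b (rfl | rfl)
    exacts [Commute.refl _, hc, hc.symm, Commute.refl _]) (by rintro a (rfl | rfl) <;> assumption)
  have h2 := CL.ES.mem_zpowers_of_isCyclic (cyc _ h1.isPGroup) (x := x) (y := y)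
    (subset_closure (by simp)) (subset_closure (by simp)) (by rwa [h0])
  classical
  rw [mem_zpowers_iff_mem_range_orderOf, h0] at h2
  obtain ⟨i, hi, rfl⟩ := Finset.mem_image.1 h2
  rw [Finset.mem_range] at hi
  interval_cases i <;> simp [pow_two]

theorem not_two_A6 : ¬ Two (alternatingGroup (Fin 6)) := fun h => by
  have := h ⟨Equiv.swap 0 1 * Equiv.swap 1 2, by simp [Equiv.Perm.mem_alternatingGroup]⟩
    ⟨Equiv.swap 3 4 * Equiv.swap 4 5, by simp [Equiv.Perm.mem_alternatingGroup]⟩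
    (Subtype.ext (by decide)) (fun e => absurd (congrArg Subtype.val e) (by decide))
    (Subtype.ext (by decide)) (Subtype.ext (by decide))
  rcases this with e | e | e <;> exact absurd (congrArg Subtype.val e) (by decide)

section Sp
open Matrix
variable {F : Type*} [Field F]

/-- commuting transvections -/
def tv (v : Fin 2 → F) : Matrix.symplecticGroup (Fin 2) F :=
  ⟨fromBlocks 1 (diagonal v) 0 1, by
    rw [SymplecticGroup.mem_iff, J, fromBlocks_transpose, fromBlocks_multiply, fromBlocks_multiply]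
    simp⟩

theorem tv_add (v w : Fin 2 → F) : tv v * tv w = tv (v + w) := by
  apply Subtype.ext
  change fromBlocks 1 (diagonal v) 0 1 * fromBlocks 1 (diagonal w) 0 1 =
    fromBlocks 1 (diagonal (v + w)) 0 1
  rw [fromBlocks_multiply]
  simp [add_comm, Pi.add_def]

theorem tv_zero : tv (0 : Fin 2 → F) = 1 := by
  apply Subtype.ext
  change fromBlocks 1 (diagonal 0) 0 1 = 1
  rw [show diagonal (0 : Fin 2 → F) = 0 from diagonal_zero, fromBlocks_one]

theorem eq_of_mk {v w : Fin 2 → F} (h : ((tv v : Matrix.symplecticGroup (Fin 2) F) : PSp 2 F) = tv w) :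
    v = w := by
  have h1 : (tv v)⁻¹ = tv (-v) := by rw [inv_eq_iff_mul_eq_one, tv_add, add_neg_cancel, tv_zero]
  rw [QuotientGroup.eq, h1, tv_add] at h
  have h2 := congrArg Subtype.val (mem_center_iff.1 h ⟨J (Fin 2) F, SymplecticGroup.J_mem _ _⟩)
  change J (Fin 2) F * fromBlocks 1 (diagonal (-v + w)) 0 1 =
    fromBlocks 1 (diagonal (-v + w)) 0 1 * J (Fin 2) F at h2
  rw [J, fromBlocks_multiply, fromBlocks_multiply] at h2
  funext i
  have h3 := congrFun (congrFun h2 (Sum.inl i)) (Sum.inl i)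
  simp at h3
  linear_combination h3

theorem not_two_PSp [CharP F 3] : ¬ Two (PSp 2 F) := fun h => by
  have h3 : ∀ v : Fin 2 → F, ((tv v : Matrix.symplecticGroup (Fin 2) F) : PSp 2 F) ^ 3 = 1 := fun v => by
    rw [← QuotientGroup.mk_pow, pow_three, tv_add, tv_add, show v + (v + v) = 0 from funext fun i => by
      have := CharP.cast_eq_zero F 3
      simp only [Pi.add_apply, Pi.zero_apply]
      push_cast at this
      linear_combination v i * this, tv_zero, QuotientGroup.mk_one]
  have := h (tv ![1, 0] : Matrix.symplecticGroup (Fin 2) F) (tv ![0, 1] : Matrix.symplecticGroup (Fin 2) F)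
    (h3 _) (fun e => by
      rw [← QuotientGroup.mk_one, ← tv_zero] at e
      simpa using congrFun (eq_of_mk e) 0) (h3 _)
    (by rw [← QuotientGroup.mk_mul, ← QuotientGroup.mk_mul, tv_add, tv_add, add_comm])
  rw [← QuotientGroup.mk_one, ← tv_zero, ← QuotientGroup.mk_mul, tv_add] at this
  rcases this with e | e | e <;> simpa using congrFun (eq_of_mk e) 1

end Sp

theorem eq_p {K : Type*} [Group K] {p r : ℕ} (h : Smp K p) (hr : r.Prime) (h5 : 5 ≤ r)
    (hd : r ∣ Nat.card K) : p = r := by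
  have := h.prime_dvd hr hd
  omega

end SK

open SK in
/-- The groups of the list with cyclic Sylow 3-subgroups and no Frobenius subgroup of order `3p`. -/
theorem sortK {K : Type*} [Group K] [Finite K] {p : ℕ} (h : Smp K p) (hK : Lst K)
    (cyc : ∀ T : Subgroup K, IsPGroup 3 T → IsCyclic T)
    (h3 : ∀ y u : K, orderOf y = p → orderOf u = 3 → u ∉ 𝐍(zpowers y)) :
    (p = 5 ∧ Nonempty (K ≃* alternatingGroup (Fin 5)) ∧ ∃ (F : Type) (_ : Field F) (_ : Fintype F)
        (_ : CharP F 2), Fintype.card F = 4 ∧ Nonempty (K ≃* Matrix.SpecialLinearGroup (Fin 2) F)) ∨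
      (p = 7 ∧ 9 ∣ Nat.card K ∧ Nat.card (MulAut K) ∣ 3 * Nat.card K ∧
        ∃ (F : Type) (_ : Field F) (_ : Fintype F) (_ : CharP F 2),
        Fintype.card F = 8 ∧ Nonempty (K ≃* Matrix.SpecialLinearGroup (Fin 2) F)) ∨
      (p = 17 ∧ ∃ (F : Type) (_ : Field F) (_ : Fintype F), Fintype.card F = 17 ∧
        Nonempty (K ≃* Matrix.ProjectiveSpecialLinearGroup (Fin 2) F)) := by
  obtain ⟨n, m, h4, h5, h6, h7⟩ := count h h3
  unfold Nat.ModEq at h4
  rcases hK with ⟨⟨e⟩⟩ | ⟨⟨e⟩⟩ | ⟨F, _, _, hF, ⟨e⟩⟩ | ⟨F, _, _, hF, ⟨e⟩⟩ | ⟨F, _, _, hF, ⟨e⟩⟩ |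
    ⟨F, _, _, hF, ⟨e⟩⟩
  · have := Fintype.ofFinite (GaloisField 2 2)
    have hF : Fintype.card (GaloisField 2 2) = 4 := by
      rw [← Nat.card_eq_fintype_card, GaloisField.card 2 2 two_ne_zero]; norm_num
    obtain ⟨f⟩ := Cfsg.Agent.S0252.result hF
    refine Or.inl ⟨eq_p h Nat.prime_five le_rfl ?_, ⟨e⟩, GaloisField 2 2, inferInstance, this,
      inferInstance, hF, ⟨(e.trans f.symm).trans CL.Spec.psl2EquivCharTwo⟩⟩
    have h8 := Cfsg.Agent.S0243.result hF 2 le_rfl
    rw [← Nat.card_congr (e.trans f.symm).toEquiv] at h8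
    simp [Fin.prod_univ_succ] at h8
    omega
  · exact absurd (two_of cyc e) not_two_A6
  · have : CharP F 3 := charP_of_card_eq_prime hF
    exact absurd (two_of cyc e) not_two_PSp
  · have hc := Nat.card_congr e.toEquiv
    rcases hF with hF | hF | hF
    · exfalso
      have h8 := Cfsg.Agent.S0243.result hF 2 le_rfl
      rw [← hc] at h8
      simp [Fin.prod_univ_succ] at h8
      obtain rfl := eq_p h (r := 7) (by norm_num) (by norm_num) (by omega)
      have := Nat.le_of_dvd (by norm_num) h5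
      interval_cases m <;> omega
    · have h8 := Cfsg.Agent.S0243.result hF 2 le_rfl
      rw [← hc] at h8
      simp [Fin.prod_univ_succ] at h8
      have : CharP F 2 := charP_of_card_eq_prime_pow (f := 3) hF
      refine Or.inr (Or.inl ⟨eq_p h (by norm_num) (by norm_num) (by omega), by omega, ?_, F,
        inferInstance, inferInstance, this, hF, ⟨e.trans CL.Spec.psl2EquivCharTwo⟩⟩)
      rw [Nat.card_congr (MulAut.congr e).toEquiv,
        CL.EqOrd.card_aut_psl (p := 2) (f := 3) hF (by omega), hF]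
      omega
    · have h8 := Cfsg.Agent.S0243.result hF 2 le_rfl
      rw [← hc] at h8
      simp [Fin.prod_univ_succ] at h8
      exact Or.inr (Or.inr ⟨eq_p h (by norm_num) (by norm_num) (by omega), F, inferInstance,
        inferInstance, hF, ⟨e⟩⟩)
  · exfalso
    have h8 := Cfsg.Agent.S0280.result (q := 3) hF 3 (by norm_num)
    rw [← Nat.card_congr e.toEquiv] at h8
    simp [Finset.prod_range_succ] at h8
    obtain rfl := eq_p h (r := 7) (by norm_num) (by norm_num) (by omega)
    have := Nat.le_of_dvd (by norm_num) h5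
    interval_cases m <;> omega
  · exfalso
    have h8 := Cfsg.Agent.S0243.result hF 3 (by norm_num)
    rw [← Nat.card_congr e.toEquiv] at h8
    simp [Fin.prod_univ_succ] at h8
    obtain rfl := eq_p h (r := 13) (by norm_num) (by norm_num) (by omega)
    have := Nat.le_of_dvd (by norm_num) h5
    interval_cases m <;> omega

end CL.K3
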