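import Cfsg.Agent.INV.K3.Prim
import Cfsg.Agent.SOLV.PGroupCyclicSCN
import Cfsg.Agent.PLOC.Symplectic
import Cfsg.Agent.SOLV.Fitting

/-! Consequences of `NoE9`. -/

set_option autoImplicit false
set_option linter.style.haveILetI false
set_option linter.unusedSectionVars false
open Subgroup Cfsg CL.MSS CL.BG CL.KM

namespace CL.K3
variable {G : Type*} [Group G] [Finite G] {p : ℕ}

namespace ThinP

theorem card_le_two {H X : Subgroup G} (h : ∀ x ∈ X, x ∉ H → ∀ y ∈ X, y ∉ H → x⁻¹ * y ∈ H) :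
    #|X| ≤ 2 * #|(X ⊓ H : Subgroup G)| := by
  by_cases hX : X ≤ H
  · rw [inf_of_le_left hX]; omega
  obtain ⟨x, hx, hxH⟩ := SetLike.not_le_iff_exists.1 hX
  have h2 : (H.subgroupOf X).index = 2 := index_eq_two_iff'.2 ⟨(⟨x, hx⟩ : X)⁻¹, fun y => by
    by_cases hy : (y : G) ∈ H
    · exact Or.inr ⟨hy, fun e => hxH (H.inv_mem_iff.1 ((H.mul_mem_cancel_right hy).1 e))⟩
    · exact Or.inl ⟨h x hx hxH y y.2 hy, hy⟩⟩
  rw [← (H.subgroupOf X).index_mul_card, h2, ← inf_subgroupOf_left,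
    Nat.card_congr (subgroupOfEquivOfLe (inf_le_left : X ⊓ H ≤ X)).toEquiv]

theorem eq_one {a : G} (h3 : a ^ 3 = 1) {k : ℕ} (h2 : a ^ 2 ^ k = 1) : a = 1 := by
  haveI : Fact (Nat.Prime 3) := ⟨Nat.prime_three⟩
  exact eq_one_of_two_primes (p := 3) (k := 1) (by norm_num) (by rwa [pow_one]) h2

/-- a 2-element that normalizes a cyclic 3-group and centralizes its `Ω₁` centralizes it -/
theorem cent_of {F : Subgroup G} (hF : IsPGroup 3 F) (hc : IsCyclic F) {f : G} (hf : f ∈ F)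
    (ho : orderOf f = 3) (k : ℕ) : ∀ {s : G}, s ∈ 𝐍(F) → s ^ 2 ^ k = 1 → Commute s f →
      s ∈ 𝐂(F) := by
  induction k with
  | zero => intro s _ h _; rw [pow_zero, pow_one] at h; rw [h]; exact one_mem _
  | succ k ih =>
    intro s hs h hsf
    have h2 := ih (mul_mem hs hs) (by rw [← pow_two, ← pow_mul, ← pow_succ', h]) (hsf.mul_left hsf)
    refine mem_cent.2 fun g hg => ?_
    have hy : g⁻¹ * (s * g * s⁻¹) ∈ F := mul_mem (inv_mem hg) (conj_mem hs hg)
    have hi : s * (g⁻¹ * (s * g * s⁻¹)) * s⁻¹ = (g⁻¹ * (s * g * s⁻¹))⁻¹ := by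
      calc _ = s * g⁻¹ * s⁻¹ * (s * s * g * (s * s)⁻¹) := by group
        _ = s * g⁻¹ * s⁻¹ * g := by rw [← (mem_cent.1 h2 g hg).eq, mul_inv_cancel_right]
        _ = _ := by group
    by_contra hn
    have h1 : g⁻¹ * (s * g * s⁻¹) ≠ 1 := fun e => hn (by
      rw [inv_mul_eq_one, eq_mul_inv_iff_mul_eq] at e; exact e)
    generalize g⁻¹ * (s * g * s⁻¹) = y at hy hi h1
    obtain ⟨l, hl⟩ := pg_elem hF hy
    obtain ⟨j, j1, j3⟩ := exists_pow_order h1 hl
    have hji : s * y ^ j * s⁻¹ = (y ^ j)⁻¹ := by rw [← conj_pow, hi, inv_pow]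
    obtain ⟨i, hi⟩ := mem_zpowers_iff.1
      (CL.ES.mem_zpowers_of_isCyclic hc hf (pow_mem hy j) (by rwa [ho]))
    rw [← hi, (hsf.zpow_right i).eq, mul_inv_cancel_right, hi, eq_inv_iff_mul_eq_one] at hji
    exact j1 (eq_one j3 (k := 1) (by rwa [pow_one, pow_two]))

/-- a solvable `{2,3}`-group with `O₂ = 1` and cyclic 3-subgroups -/
theorem struct [Group.IsSolvable G] (hp : ∀ r : ℕ, r.Prime → r ∣ Nat.card G → r = 2 ∨ r = 3)
    (h2 : pCore 2 G = ⊥) (hcyc : ∀ T : Subgroup G, IsPGroup 3 T → IsCyclic T) {Y : Subgroup G}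
    (hY : IsPGroup 2 Y) : (∀ x ∈ Y, x ≠ 1 → ∀ y ∈ Y, y ≠ 1 → x⁻¹ * y = 1) ∧
      ∀ u ∈ 𝐍(Y), orderOf u = 3 → ∀ t ∈ Y, t = 1 := by
  haveI : Fact (Nat.Prime 3) := ⟨Nat.prime_three⟩
  haveI : Fact (Nat.Prime 2) := ⟨Nat.prime_two⟩
  have h3 : pPrimeCore 3 G = ⊥ := by
    rw [eq_bot_iff, ← h2]
    refine oP_le_pCore (IsPGroup.of_card (Nat.eq_prime_pow_of_unique_prime_dvd Nat.card_pos.ne'
      fun {r} hr hd => (hp r hr (hd.trans (card_subgroup_dvd_card _))).resolve_right ?_))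
    rintro rfl
    exact (Nat.prime_three.coprime_iff_not_dvd.1 (CL.coprime_card_pPrimeCore 3 G).symm) hd
  have hc := CL.centralizer_pCore_le_of_isSolvable h3
  have hF : IsPGroup 3 (pCore 3 G) := oP_pCore_isPGroup
  have hN : ∀ g : G, g ∈ 𝐍(pCore 3 G) := fun g => le_normalizer_of_normal (mem_top g)
  generalize pCore 3 G = F at hc hF hN
  have one : ∀ t ∈ Y, t ∈ 𝐂(F) → t = 1 := fun t ht h => by
    obtain ⟨k, hk⟩ := pg_elem hF (hc h)
    obtain ⟨l, hl⟩ := pg_elem hY ht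
    exact eq_one_of_two_primes (by norm_num) hk hl
  have key : ∀ f ∈ F, orderOf f = 3 → ∀ t ∈ Y, Commute t f → t = 1 := fun f hf ho t ht h => by
    obtain ⟨l, hl⟩ := pg_elem hY ht
    exact one t ht (cent_of hF (hcyc F hF) hf ho l (hN t) hl h)
  have A : ∀ x ∈ Y, x ≠ 1 → ∀ y ∈ Y, y ≠ 1 → x⁻¹ * y = 1 := by
    intro x hx x1 y hy y1
    obtain ⟨g, hg, g1⟩ : ∃ g ∈ F, g ≠ 1 := by
      by_contra hn
      push Not at hn
      exact x1 (one x hx (mem_cent.2 fun g hg => by rw [hn g hg]; exact Commute.one_left _))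
    obtain ⟨l, hl⟩ := pg_elem hF hg
    obtain ⟨j, j1, j3⟩ := exists_pow_order g1 hl
    have hf := pow_mem hg j
    generalize g ^ j = f at j1 j3 hf
    have ho : orderOf f = 3 := orderOf_eq_prime j3 j1
    have inv : ∀ t ∈ Y, t ≠ 1 → t * f * t⁻¹ = f ^ 2 := fun t ht t1 => by
      classical
      have hm := CL.ES.mem_zpowers_of_isCyclic (hcyc F hF) hf (conj_mem (hN t) hf)
        (by rw [ho, conj_pow, j3, mul_one, mul_inv_cancel])
      rw [mem_zpowers_iff_mem_range_orderOf, ho] at hm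
      obtain ⟨i, hi, e⟩ := Finset.mem_image.1 hm
      have hi' := Finset.mem_range.1 hi
      interval_cases i
      · exact (j1 (conj_eq_one_iff.1 (by rw [← e, pow_zero]))).elim
      · refine (t1 (key f hf ho t ht ?_)).elim
        rw [pow_one, eq_mul_inv_iff_mul_eq] at e
        exact e.symm
      · exact e.symm
    refine key f hf ho _ (mul_mem (inv_mem hx) hy) ?_
    have := (inv x hx x1).trans (inv y hy y1).symm
    calc x⁻¹ * y * f = x⁻¹ * (y * f * y⁻¹) * y := by group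
      _ = f * (x⁻¹ * y) := by rw [← this]; group
  refine ⟨A, fun u hu ho t ht => ?_⟩
  have hT : IsPGroup 3 (zpowers u ⊔ F : Subgroup G) := isPGroup_sup_of_normalizes
    (isPGroup_zpowers (k := 1) (by rw [pow_one, ← ho, pow_orderOf_eq_one])) hF fun g _ => hN g
  have huF : u ∈ F := hc (mem_cent.2 fun g hg => by
    haveI := hcyc _ hT
    letI := IsCyclic.commGroup (α := (zpowers u ⊔ F : Subgroup G))
    exact congrArg Subtype.val (mul_comm (⟨g, mem_sup_right hg⟩ : (zpowers u ⊔ F : Subgroup G))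
      ⟨u, mem_sup_left (mem_zpowers u)⟩))
  by_contra t1
  have := A t ht t1 _ (conj_mem hu ht) fun e => t1 (conj_eq_one_iff.1 e)
  rw [inv_mul_eq_one, eq_mul_inv_iff_mul_eq] at this
  exact t1 (key u huF ho t ht this)

theorem lift {N : Subgroup G} [N.Normal] (hcyc : ∀ T : Subgroup G, IsPGroup 3 T → IsCyclic T)
    (T : Subgroup (G ⧸ N)) (hT : IsPGroup 3 T) : IsCyclic T := by
  haveI : Fact (Nat.Prime 3) := ⟨Nat.prime_three⟩
  obtain ⟨P, hP⟩ := exists_sylIn 3 (T.comap (QuotientGroup.mk' N))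
  have h1 := hP.map (QuotientGroup.mk' N)
  rw [map_comap_eq_self_of_surjective (QuotientGroup.mk'_surjective N)] at h1
  rw [← h1.eq_of_isPGroup hT]
  haveI := hcyc P hP.pgroup
  exact isCyclic_of_surjective _ ((QuotientGroup.mk' N).subgroupMap_surjective P)

end ThinP

/-- r2: `exists_cent_inv` with D = zpowers u, k = 1.
cyc: a noncyclic 3-group contains E = E9; E acts on W = omZ U ≠ 1, some x ∈ E# has C_W(x) ≠ 1 (coprime
generation, e.g. `coprime_le_of_forall_hyperplane`), |C_W(x)| = 2 by r2, so E centralizes an involution.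
idx, inv: C = C(c) is a solvable {2,3}-group (`Smp.solv_cent`, `Smp.not_dvd_cent`), C̄ = C/O₂(C) has
O₂ = 1, so F = F(C̄) = O₃(C̄) is self-centralizing, and cyclic by cyc (3-subgroups of C normalize zpowers c).
A 2-subgroup X̄ of C̄ embeds in Aut(F) (cyclic of order 2·3^(k-1)), so |X̄| ≤ 2.  A Sylow 3-subgroup of C̄ is cyclic
and contains F, so equals F; so ū ∈ F, ū ≠ 1; if X̄ = ⟨t⟩ ≠ 1 is normalized by ū, t centralizes ū, so t
centralizes the cyclic 3-group F (an involution acting on a cyclic 3-group centralizes or inverts it). -/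
theorem thin_of (h : Hyp G p) (h9 : NoE9 G) : Thin G := by
  haveI : Fact (Nat.Prime 3) := ⟨Nat.prime_three⟩
  haveI : Fact (Nat.Prime 2) := ⟨Nat.prime_two⟩
  have r2 : ∀ (u : G) (A : Subgroup G), orderOf u = 3 → EA 2 A → (∀ a ∈ A, Commute u a) →
      #|A| ≤ 2 := by
    intro u A hu hA hc
    by_contra hlt
    have hD : EA 3 (zpowers u) := by
      rw [zpowers_eq_closure]
      refine ea_closure _ ?_ ?_
      · rintro _ rfl _ rfl; exact Commute.refl _
      · rintro _ rfl; rw [← hu, pow_orderOf_eq_one]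
    have hcard : #|zpowers u| = 3 := by rw [Nat.card_zpowers, hu]
    obtain ⟨t, A', h1, h2, h3, h4, h5⟩ := exists_cent_inv (by norm_num) h.c3 hD
      (fun e => by rw [e, card_bot] at hcard; omega) hA
      (fun a ha => mem_cent.2 fun s hs => by
        obtain ⟨i, rfl⟩ := mem_zpowers_iff.1 hs
        exact (hc a ha).zpow_left i) 1 (by omega)
    have := h9 t A' (CL.LX.orderOf_eq_two_of h1 h2) h3 h4
    omega
  have cyc : ∀ T U : Subgroup G, IsPGroup 3 T → IsPGroup 2 U → U ≠ ⊥ → T ≤ 𝐍(U) → IsCyclic T := by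
    intro T U hT hU hU0 hTU
    rcases CL.PCyc.isCyclic_or_elemAb_or_quaternion hT with h1 | ⟨E₀, hE₀, hc⟩ | ⟨h1, -⟩
    · exact h1
    swap
    · omega
    exfalso
    have hE : EA 3 (E₀.map T.subtype) := by
      have hE₀ := ea_iff.2 hE₀
      refine ⟨?_, ?_⟩
      · rintro _ ⟨a, ha, rfl⟩ _ ⟨b, hb, rfl⟩
        exact (hE₀.1 a ha b hb).map _
      · rintro _ ⟨a, ha, rfl⟩
        rw [← map_pow, hE₀.2 a ha, map_one]
    rw [← card_subtype] at hc
    have hEW : E₀.map T.subtype ≤ 𝐍(omZ U) := fun e he =>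
      omZ_norm U (hTU (map_subtype_le _ he))
    generalize E₀.map T.subtype = E at hE hc hEW
    obtain ⟨x, hx, x1⟩ := (bot_or_exists_ne_one _).resolve_left
      (inf_centralizer_ne_bot hU hU le_normalizer hU0)
    obtain ⟨l, hl⟩ := pg_elem hU hx.1
    obtain ⟨j, j1, j2⟩ := exists_pow_order x1 hl
    haveI := hE.comm
    have hW : ¬ omZ U ≤ ⊥ := fun e =>
      j1 (e (⟨pow_mem hx.1 j, pow_mem hx.2 j, by rwa [← pow_two]⟩ : x ^ j ∈ omZ U))
    have := mt (CL.coprime_le_of_forall_hyperplane E (omZ U) ⊥ Nat.prime_three hE.2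
      (fun e => by rw [e, card_bot] at hc; omega) hEW
      (IsPGroup.coprime_card_of_ne 3 2 (by norm_num) _ _ hE.isPGroup (omZ_ea U).isPGroup)) hW
    push Not at this
    obtain ⟨B, hBE, hi, hB⟩ := this
    obtain ⟨w, hw, w1⟩ := SetLike.not_le_iff_exists.1 hB
    have hcB := card_eq_mul hBE hi
    obtain ⟨b, hb, b1⟩ := (bot_or_exists_ne_one B).resolve_left fun e => by
      rw [e, card_bot] at hcB; omega
    have h2 := r2 b _ (orderOf_eq_prime (hE.2 b (hBE hb)) b1) ((omZ_ea U).mono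
      (inf_le_left : omZ U ⊓ 𝐂(B) ≤ _)) fun a ha => mem_cent.1 ha.2 b hb
    have h3 := h9 w E (CL.LX.orderOf_eq_two_of w1 hw.1.2.2) hE fun e he => by
      by_contra hn
      have := two_lt_card hw (conj_mem (norm_inf_cent (hEW he)
        (cent_le_norm fun b hb => hE.1 b (hBE hb) e he)) hw) hn
      omega
    omega
  have main : ∀ (c : G) (X : Subgroup G), orderOf c = 2 → X ≤ 𝐂₁(c) → IsPGroup 2 X →
      (∀ x ∈ X, x ∉ Qz c → ∀ y ∈ X, y ∉ Qz c → x⁻¹ * y ∈ Qz c) ∧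
        ∀ u : G, orderOf u = 3 → Commute u c → u ∈ 𝐍(X) → X ≤ Qz c := by
    intro c X hc hX hX2
    have c1 := CL.LX.ne_one_of_orderOf hc
    have c2 : c ^ 2 = 1 := by rw [← hc, pow_orderOf_eq_one]
    have hp2 : ¬ p ∣ 2 := fun e => by have := Nat.le_of_dvd two_pos e; have := h.p5; omega
    obtain ⟨z1, z2, z3⟩ := zpowers_two hc
    set C := (𝐂₁(c) : Subgroup G) with hC
    haveI : Group.IsSolvable C := h.solv_cent c1 c2 hp2
    have hpC := h.not_dvd_cent c1 c2 hp2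
    let π := QuotientGroup.mk' (pCore 2 C)
    have hπ : ∀ x : C, π x = 1 ↔ (x : G) ∈ Qz c := fun x =>
      (QuotientGroup.eq_one_iff x).trans mem_oP_iff.symm
    obtain ⟨s1, s2⟩ := ThinP.struct (G := C ⧸ pCore 2 C) (fun r hr hd => by
      have hd' := hd.trans (card_quotient_dvd_card _)
      rcases h.prime_dvd hr (hd'.trans (card_subgroup_dvd_card C)) with e | e | e
      exacts [Or.inl e, Or.inr e, (hpC (e ▸ hd')).elim]) oP_pCore_quotient_pCore
      (ThinP.lift fun T hT => by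
        haveI := cyc _ _ (hT.map C.subtype) z1 z2 ((map_subtype_le T).trans z3.ge)
        exact isCyclic_of_surjective _ (T.equivMapOfInjective _ C.subtype_injective).symm.surjective)
      ((isPGroup_subgroupOf hX2 C).map π)
    refine ⟨fun x hx xQ y hy yQ => (hπ ((⟨x, hX hx⟩ : C)⁻¹ * ⟨y, hX hy⟩)).1 ?_,
      fun u hu huc huX t ht => (hπ ⟨t, hX ht⟩).1 ?_⟩
    · rw [map_mul, map_inv]
      exact s1 _ ⟨_, hx, rfl⟩ (fun e => xQ ((hπ _).1 e)) _ ⟨_, hy, rfl⟩ fun e => yQ ((hπ _).1 e)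
    · have huC : u ∈ C := mem_cent1.2 huc.symm
      have u3 : u ^ 3 = 1 := by rw [← hu, pow_orderOf_eq_one]
      refine s2 (π ⟨u, huC⟩) (mem_norm ?_) (orderOf_eq_prime ?_ fun e => ?_) _ ⟨_, ht, rfl⟩
      · rintro _ ⟨a, ha, rfl⟩
        rw [← map_inv, ← map_mul, ← map_mul]
        exact mem_map_of_mem _ (mem_subgroupOf.2 (conj_mem huX (mem_subgroupOf.1 ha)))
      · rw [← map_pow, show (⟨u, huC⟩ : C) ^ 3 = 1 from Subtype.ext u3, map_one]
      · obtain ⟨l, hl⟩ := pg_elem (oP_isPGroup _) ((hπ _).1 e)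
        rw [ThinP.eq_one u3 hl, orderOf_one] at hu
        omega
  exact ⟨r2, cyc, fun c X hc hX hX2 => ThinP.card_le_two (main c X hc hX hX2).1,
    fun c u X hc hu huc hX hX2 huX => (main c X hc hX hX2).2 u hu huc huX⟩

end CL.K3
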