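import Cfsg.Agent.INV.K3.Prim
import Cfsg.Agent.SOLV.FrobeniusNil
import Cfsg.Agent.SOLV.SectionAut
import Cfsg.Agent.FGS.NilpBasic

/-! Normal `{2,3}`-subgroups of nonsolvable 2-locals; the socle datum. -/

set_option autoImplicit false
open Subgroup Cfsg CL.MSS CL.BG CL.KM

namespace CL.K3
variable {G : Type*} [Group G] [Finite G] {p : ℕ}

theorem Smp.fpf_sub (h : Smp G p) {y : G} (hy : orderOf y = p) {N : Subgroup G} (hN : ¬ p ∣ #|N|)
    {x : G} (hx : x ∈ zpowers y) (hx1 : x ≠ 1) : N ⊓ 𝐂₁(x) = ⊥ := by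
  have hxo : orderOf x = p := by
    refine orderOf_eq_prime (hp := ⟨h.pp⟩) ?_ hx1
    obtain ⟨i, rfl⟩ := mem_zpowers_iff.1 hx
    rw [← zpow_natCast, ← zpow_mul, mul_comm, zpow_mul, zpow_natCast, ← hy, pow_orderOf_eq_one,
      one_zpow]
  refine (eq_bot_iff_forall _).2 fun a ha => h.fpf hxo (mem_cent1.1 ha.2) (n := #|N|) ?_ hN
  exact congrArg Subtype.val (pow_card_eq_one' (x := (⟨a, ha.1⟩ : N)))

/-- In a 2-local subgroup of order divisible by `p`, normal `p'`-subgroups are 2-groups. -/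
theorem Smp.le_oP (h : Smp G p) {M N : Subgroup G}
    (hc : M ⊓ 𝐂(pCoreOf 2 M) ≤ pCoreOf 2 M) (hp : p ∣ #|M|) (hNM : N ≤ M) (hn : M ≤ 𝐍(N))
    (hN : ¬ p ∣ #|N|) : N ≤ pCoreOf 2 M := by
  haveI := Fact.mk h.pp
  obtain ⟨y, hy⟩ := exists_prime_orderOf_dvd_card' p hp
  have hy' : orderOf (y : G) = p := by rw [orderOf_coe, hy]
  set Q := pCoreOf 2 M with hQ
  have hQp : IsPGroup 2 Q := oP_isPGroup M
  have hn' : M ≤ 𝐍((N ⊔ Q : Subgroup G)) := fun x hx =>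
    normalizer_inf_normalizer_le_normalizer_sup _ _ ⟨hn hx, oP_normal M hx⟩
  have hN' : ¬ p ∣ #|(N ⊔ Q : Subgroup G)| := fun hd => by
    have h1 := CL.card_sup_dvd_mul_of_le_normalizer (K := Q) (hNM.trans (oP_normal M))
    rcases (Nat.Prime.dvd_mul h.pp).1 (hd.trans h1) with h2 | h2
    · exact hN h2
    · obtain ⟨k, hk⟩ := hQp.exists_card_eq
      rw [hk] at h2
      have := (Nat.prime_dvd_prime_iff_eq h.pp Nat.prime_two).1 (h.pp.dvd_of_dvd_pow h2)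
      have := h.p5
      omega
  have hnil : Group.IsNilpotent (N ⊔ Q : Subgroup G) :=
    CL.Frob.isNilpotent_of_fpf (R := zpowers (y : G)) ((zpowers_le.2 y.2).trans hn')
      (by
        rw [Ne, zpowers_eq_bot]
        intro h1
        rw [h1, orderOf_one] at hy'
        exact h.pp.one_lt.ne hy')
      (fun x hx hx1 => h.fpf_sub hy' hN' hx hx1)
  refine CL.MSS.le_oP (fun ⟨x, hx⟩ => ?_) hNM hn
  obtain ⟨k, m, hm, e⟩ := Nat.exists_eq_two_pow_mul_odd (orderOf_pos x).ne'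
  refine ⟨k, Subtype.ext ?_⟩
  have h1 : (x ^ 2 ^ k) ^ m = 1 := by rw [← pow_mul, ← e, pow_orderOf_eq_one]
  have h2 : x ^ 2 ^ k ∈ Q := hc ⟨pow_mem (hNM hx) _, mem_cent.2 fun s hs => by
    obtain ⟨j, hj⟩ := pg_elem hQp hs
    exact CL.FGS.commute_of_mem_nilpotent_of_coprime _ hnil (mem_sup_right hs)
      (pow_mem (mem_sup_left hx) _) (Nat.Coprime.coprime_dvd_left (orderOf_dvd_of_pow_eq_one hj)
        (Nat.Coprime.coprime_dvd_right (orderOf_dvd_of_pow_eq_one h1)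
          (Nat.Coprime.pow_left j (Nat.coprime_two_left.2 hm))))⟩
  obtain ⟨j, hj⟩ := pg_elem hQp h2
  have := pow_gcd_eq_one.2 ⟨h1, hj⟩
  rw [(Nat.Coprime.pow_right j (Nat.coprime_two_right.2 hm)).gcd_eq_one, pow_one] at this
  simpa using this

/-- `L / Q ≅ K` is self-centralizing in `M / Q`. -/
structure Soc {K : Type*} [Group K] (M L Q : Subgroup G) (φ : L →* K) : Prop where
  QL : Q ≤ L
  LM : L ≤ M
  nL : M ≤ 𝐍(L)
  nQ : M ≤ 𝐍(Q)
  surj : Function.Surjective φ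
  ker : ∀ x : L, φ x = 1 ↔ (x : G) ∈ Q
  faith : ∀ x ∈ M, (∀ l ∈ L, x * l * x⁻¹ * l⁻¹ ∈ Q) → x ∈ Q

end CL.K3
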