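import Cfsg.Agent.INV.K3.Base
import Cfsg.Agent.S0492

/-! The prime `p` is one of `5, 7, 13, 17`. -/

set_option autoImplicit false
open Subgroup Cfsg CL.MSS CL.BG CL.KM

namespace CL.K3
variable {G : Type*} [Group G] [Finite G] {p : ℕ}

theorem Smp.not_solv (h : Smp G p) : ¬ Group.IsSolvable G := fun hs => by
  have := h.simple
  exact h.nc (IsSimpleGroup.comm_iff_isSolvable.2 hs |> fun hc => ⟨⟨hc⟩⟩)

theorem Smp.two_dvd (h : Smp G p) : 2 ∣ Nat.card G := by
  by_contra hn
  refine h.not_solv (CL.Char.isSolvable_of_primes_subset_pair Nat.prime_three h.pp fun r hr hd => ?_)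
  rcases h.prime_dvd hr hd with e | e | e
  exacts [(hn (e ▸ hd)).elim, Or.inl e, Or.inr e]

theorem Smp.three_dvd (h : Smp G p) : 3 ∣ Nat.card G := by
  by_contra hn
  refine h.not_solv (CL.Char.isSolvable_of_primes_subset_pair Nat.prime_two h.pp fun r hr hd => ?_)
  rcases h.prime_dvd hr hd with e | e | e
  exacts [Or.inl e, (hn (e ▸ hd)).elim, Or.inr e]

theorem Smp.four (h : Smp G p) : p = 5 ∨ p = 7 ∨ p = 13 ∨ p = 17 := by
  have := h.simple
  have h0 : Nat.card G ≠ 0 := Nat.card_pos.ne'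
  have p5 := h.p5
  have e : (Nat.card G).primeFactors = {2, 3, p} := by
    ext r
    simp only [Nat.mem_primeFactors, Finset.mem_insert, Finset.mem_singleton]
    refine ⟨fun hr => h.prime_dvd hr.1 hr.2.1, ?_⟩
    rintro (rfl | rfl | rfl)
    exacts [⟨Nat.prime_two, h.two_dvd, h0⟩, ⟨Nat.prime_three, h.three_dvd, h0⟩, ⟨h.pp, h.dvd, h0⟩]
  have hp : p ∈ (Nat.card G).primeFactors := by simp [e]
  rcases Cfsg.Agent.S0492.result h.nc (by
    rw [e, Finset.card_eq_three]
    exact ⟨2, 3, p, by omega, by omega, by omega, rfl⟩) with h1 | h1 | h1 | h1 <;>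
  · rw [h1] at hp
    simp only [Finset.mem_insert, Finset.mem_singleton] at hp
    omega

end CL.K3
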