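import Cfsg.Agent.INV.K3.Nrm
import Cfsg.Agent.PLOC.PConstrained
import Cfsg.Agent.S1001

/-! The socle of `M / O₂(M)` for a nonsolvable 2-local subgroup `M`. -/

set_option autoImplicit false
open Subgroup Cfsg CL.MSS CL.BG CL.KM
open scoped commutatorElement

namespace CL.K3
universe u
variable {G : Type u} [Group G] [Finite G] {p : ℕ}

theorem Ord.of_dvd (h : Ord G p) {K : Type*} [Group K] (h1 : Nat.card K ∣ Nat.card G)
    (h2 : p ∣ Nat.card K) : Ord K p := by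
  obtain ⟨a, b, e⟩ := h.card
  obtain ⟨n, hn⟩ := h2
  rw [e, hn, mul_assoc, Nat.mul_dvd_mul_iff_left h.pp.pos] at h1
  obtain ⟨x, y, hx, hy, rfl⟩ := Nat.dvd_mul.1 h1
  obtain ⟨i, -, rfl⟩ := (Nat.dvd_prime_pow Nat.prime_three).1 hx
  obtain ⟨j, -, rfl⟩ := (Nat.dvd_prime_pow Nat.prime_two).1 hy
  exact ⟨h.pp, h.p5, i, j, by rw [hn, mul_assoc]⟩

theorem Ord.smp (h : Ord G p) [hs : IsSimpleGroup G] (nc : ¬ IsMulCommutative G) : Smp G p :=
  ⟨h, hs, nc, fun y hy => by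
    obtain ⟨a, b, e⟩ := h.card
    exact Cfsg.Agent.S1001.result p a b h.pp e y hy⟩

/-- a normal subgroup of order divisible by `p` contains all elements of order `p`. -/
theorem Ord.mem_of_dvd (h : Ord G p) {N L : Subgroup G} (hN : N ≤ L) (hn : L ≤ 𝐍(N)) (hp : p ∣ #|N|)
    {x : G} (hx : x ∈ L) (ho : orderOf x = p) : x ∈ N := by
  haveI : (N.subgroupOf L).Normal := (normal_subgroupOf_iff_le_normalizer hN).2 hn
  refine oU_mem_of_pow_mem (n := N.relIndex L) ?_ ((N.subgroupOf L).pow_index_mem ⟨x, hx⟩)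
  rw [ho, Nat.Prime.coprime_iff_not_dvd h.pp]
  intro hd
  refine h.not_dvd h.pp h.pp h.p5 h.p5 (dvd_trans ?_ (card_subgroup_dvd_card L))
  rw [card_eq_mul hN rfl]
  exact Nat.mul_dvd_mul hd hp

theorem lift_order {L K : Type*} [Group L] [Group K] (φ : L →* K) (hk : IsPGroup 2 φ.ker)
    {r : ℕ} (hr : r.Prime) (h2 : r ≠ 2) {x : L} (hx : orderOf (φ x) = r) :
    ∃ n : ℕ, orderOf (x ^ n) = r ∧ φ (x ^ n) = φ x := by
  haveI := Fact.mk hr
  have h1 : x ^ r ∈ φ.ker := by rw [MonoidHom.mem_ker, map_pow, ← hx, pow_orderOf_eq_one]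
  obtain ⟨j, hj⟩ := pg_elem hk h1
  obtain ⟨m, hm⟩ := exists_pow_eq_self_of_coprime (x := φ x) (n := 2 ^ j) (by
    rw [hx]; exact Nat.Coprime.pow_left _ ((Nat.coprime_primes Nat.prime_two hr).2 h2.symm))
  have e : φ (x ^ (2 ^ j * m)) = φ x := by rw [map_pow, pow_mul, hm]
  refine ⟨2 ^ j * m, orderOf_eq_prime ?_ fun h1 => ?_, e⟩
  · rw [← pow_mul, mul_comm, pow_mul, pow_mul, hj, one_pow]
  · rw [h1, map_one] at e
    rw [← e, orderOf_one] at hx
    exact hr.one_lt.ne hx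

theorem exists_centQ {M L Q : Subgroup G} (hQL : Q ≤ L) (hLM : L ≤ M) (hLn : M ≤ 𝐍(L))
    (hQn : M ≤ 𝐍(Q)) : ∃ C ≤ M, M ≤ 𝐍(C) ∧ ∀ x ∈ M, x ∈ C ↔ ∀ k ∈ L, ⁅k, x⁆ ∈ Q := by
  haveI : (Q.subgroupOf L).Normal := (normal_subgroupOf_iff_le_normalizer hQL).2 (hLM.trans hQn)
  obtain ⟨C, hn, hC⟩ : ∃ C : Subgroup M, C.Normal ∧ ∀ x : M, x ∈ C ↔ ∀ k ∈ L, ⁅k, (x : G)⁆ ∈ Q :=
    ⟨_, MonoidHom.normal_ker _, CL.mem_ker_sectionAut M L Q hLn hQn⟩
  refine ⟨C.map M.subtype, map_subtype_le _, fun g hg => mem_norm ?_, fun x hx => ?_⟩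
  · rintro _ ⟨x, hx, rfl⟩
    exact ⟨⟨g, hg⟩ * x * ⟨g, hg⟩⁻¹, hn.conj_mem x hx _, rfl⟩
  · rw [← hC ⟨x, hx⟩]
    exact ⟨by rintro ⟨x', hx', rfl⟩; exact hx', fun h' => ⟨_, h', rfl⟩⟩

theorem exists_soc (h : Smp G p) {M : Subgroup G} (hc : M ⊓ 𝐂(pCoreOf 2 M) ≤ pCoreOf 2 M)
    (h0 : pCoreOf 2 M ≠ ⊥) (hns : ¬ Group.IsSolvable M) :
    ∃ (L : Subgroup G) (K : Type u) (_ : Group K) (_ : Finite K) (φ : L →* K),
      Soc M L (pCoreOf 2 M) φ ∧ Smp K p ∧ Nat.card K < Nat.card G := by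
  haveI := Fact.mk h.pp
  have p5 := h.p5
  have hp : p ∣ #|M| := by
    by_contra hn
    exact hns (h.toOrd.solv hn)
  have key : ∀ N ≤ M, M ≤ 𝐍(N) → ¬ p ∣ #|N| → N ≤ pCoreOf 2 M := fun N h1 h2 h3 =>
    h.le_oP hc hp h1 h2 h3
  have hQp : IsPGroup 2 (pCoreOf 2 M) := oP_isPGroup M
  have hQM : pCoreOf 2 M ≤ M := oP_le M
  have hQn : M ≤ 𝐍(pCoreOf 2 M) := oP_normal M
  generalize pCoreOf 2 M = Q at *
  have hyQ : ∀ y : G, orderOf y = p → y ∉ Q := fun y hy hQ => by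
    obtain ⟨k, hk⟩ := pg_elem hQp hQ
    have := h.fpf2 hy (Commute.refl y) hk
    rw [this, orderOf_one] at hy
    omega
  have hpQ : ¬ p ∣ #|Q| := fun hd => by
    obtain ⟨y, hy⟩ := exists_prime_orderOf_dvd_card' p hd
    exact hyQ y (by rw [orderOf_coe, hy]) y.2
  obtain ⟨L, ⟨hQL, hLM, hLn, hpL⟩, hmin⟩ := exists_minimal_of_wellFoundedLT
    (fun L : Subgroup G => Q ≤ L ∧ L ≤ M ∧ M ≤ 𝐍(L) ∧ p ∣ #|L|) ⟨M, hQM, le_rfl, le_normalizer, hp⟩
  obtain ⟨y, hy⟩ := exists_prime_orderOf_dvd_card' p hpL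
  have hy' : orderOf (y : G) = p := by rw [orderOf_coe, hy]
  have dich : ∀ N : Subgroup G, Q ≤ N → N ≤ L → L ≤ 𝐍(N) → N = Q ∨ N = L := by
    intro N h1 h2 h3
    by_cases hd : p ∣ #|N|
    · right
      let R := closure {x : G | x ∈ L ∧ orderOf x = p}
      have hRN : R ≤ N := (closure_le _).2 fun x hx => h.mem_of_dvd h2 h3 hd hx.1 hx.2
      have hRn : M ≤ 𝐍(R) := fun g hg => mem_norm fun x hx => by
        have : R ≤ R.comap (MulAut.conj g).toMonoidHom := (closure_le _).2 fun x hx =>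
          subset_closure ⟨conj_mem (hLn hg) hx.1, by
            rw [← hx.2]; exact (MulAut.conj g).orderOf_eq x⟩
        exact this hx
      refine le_antisymm h2 ((hmin (y := R ⊔ Q) ⟨le_sup_right, sup_le (hRN.trans (h2.trans hLM)) hQM,
        fun g hg => normalizer_inf_normalizer_le_normalizer_sup _ _ ⟨hRn hg, hQn hg⟩, ?_⟩
        (sup_le (hRN.trans h2) hQL)).trans (sup_le hRN h1))
      rw [← hy']
      exact (R ⊔ Q).orderOf_dvd_natCard (mem_sup_left (subset_closure ⟨y.2, hy'⟩))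
    · left
      refine le_antisymm ((CL.le_map_pPrimeCore h2 h3
        ((Nat.Prime.coprime_iff_not_dvd h.pp).2 hd).symm).trans (key _ ((map_subtype_le _).trans hLM)
          (hLn.trans (CL.normalizer_le_normalizer_map_pPrimeCore L)) ?_)) h1
      rw [card_map_of_injective L.subtype_injective]
      exact CL.not_dvd_card_pPrimeCore p L
  haveI : (Q.subgroupOf L).Normal := (normal_subgroupOf_iff_le_normalizer hQL).2 (hLM.trans hQn)
  have hcard : #|L| = Nat.card (L ⧸ Q.subgroupOf L) * #|Q| := card_eq_mul hQL rfl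
  have hpK : p ∣ Nat.card (L ⧸ Q.subgroupOf L) :=
    ((Nat.Prime.dvd_mul h.pp).1 (hcard ▸ hpL)).resolve_right hpQ
  have hker : ∀ x : L, QuotientGroup.mk' (Q.subgroupOf L) x = 1 ↔ (x : G) ∈ Q := fun x =>
    QuotientGroup.eq_one_iff x
  haveI hsimp : IsSimpleGroup (L ⧸ Q.subgroupOf L) := by
    haveI : Nontrivial (L ⧸ Q.subgroupOf L) := Finite.one_lt_card_iff_nontrivial.1
      (lt_of_lt_of_le h.pp.one_lt (Nat.le_of_dvd Nat.card_pos hpK))
    refine ⟨fun W hW => ?_⟩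
    set N := W.comap (QuotientGroup.mk' (Q.subgroupOf L)) with hN
    have hW' : W = N.map (QuotientGroup.mk' _) :=
      (map_comap_eq_self_of_surjective (QuotientGroup.mk'_surjective _) W).symm
    rcases dich (N.map L.subtype) (fun x hx => ⟨⟨x, hQL hx⟩, by
        rw [hN, SetLike.mem_coe, mem_comap, (hker _).2 hx]; exact one_mem _, rfl⟩) (map_subtype_le _)
        (fun g hg => mem_norm (by
          rintro _ ⟨x, hx, rfl⟩
          exact ⟨⟨g, hg⟩ * x * ⟨g, hg⟩⁻¹, (hW.comap _).conj_mem x hx _, rfl⟩)) with e | e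
    · left
      rw [hW', eq_bot_iff]
      rintro _ ⟨x, hx, rfl⟩
      exact (hker x).2 (e ▸ mem_map_of_mem _ hx)
    · right
      rw [hW', eq_top_iff]
      intro w _
      obtain ⟨x, rfl⟩ := QuotientGroup.mk'_surjective _ w
      obtain ⟨x', hx', e'⟩ : (x : G) ∈ N.map L.subtype := e.symm ▸ x.2
      exact ⟨x', hx', by rw [Subtype.ext e']⟩
  have hnc : ¬ IsMulCommutative (L ⧸ Q.subgroupOf L) := fun hcm => hns (by
    haveI : (L.subgroupOf M).Normal := (normal_subgroupOf_iff_le_normalizer hLM).2 hLn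
    refine (Group.isSolvable_iff_subgroup_quotient (L.subgroupOf M)).2 ⟨?_, ?_⟩
    · have : Group.IsSolvable L := by
        refine (Group.isSolvable_iff_subgroup_quotient (Q.subgroupOf L)).2
          ⟨?_, Group.isSolvable_of_comm hcm.is_comm.comm⟩
        have := (hQp.of_equiv (subgroupOfEquivOfLe hQL).symm).isNilpotent
        infer_instance
      exact Group.isSolvable_of_surjective (f := (subgroupOfEquivOfLe hLM).symm.toMonoidHom)
        (MulEquiv.surjective _)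
    · refine CL.Char.isSolvable_of_primes_subset_pair Nat.prime_two Nat.prime_three fun r hr hd => ?_
      have e : #|M| = Nat.card (M ⧸ L.subgroupOf M) * #|L| := card_eq_mul hLM rfl
      rcases h.prime_dvd hr ((hd.mul_right _).trans (e ▸ card_subgroup_dvd_card M)) with e1 | e1 | e1
      · exact Or.inl e1
      · exact Or.inr e1
      · exact (h.not_dvd h.pp h.pp h.p5 h.p5 ((Nat.mul_dvd_mul (e1 ▸ hd) hpL).trans
          (e ▸ card_subgroup_dvd_card M))).elim)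
  refine ⟨L, L ⧸ Q.subgroupOf L, inferInstance, inferInstance, QuotientGroup.mk' _,
    ⟨hQL, hLM, hLn, hQn, QuotientGroup.mk'_surjective _, hker, fun x hx hxl => ?_⟩,
    (h.toOrd.of_dvd ((Dvd.intro _ hcard.symm).trans (card_subgroup_dvd_card L)) hpK).smp hnc, ?_⟩
  · obtain ⟨C, hCM, hCn, hmem⟩ := exists_centQ hQL hLM hLn hQn
    refine key C hCM hCn (fun hd => ?_) ((hmem x hx).2 fun k hk => ?_)
    · rcases dich (C ⊓ L) (fun q hq => ⟨(hmem q (hQM hq)).2 fun k hk => by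
          rw [commutatorElement_def]
          exact mul_mem (conj_mem (hQn (hLM hk)) hq) (inv_mem hq), hQL hq⟩) inf_le_right
          (fun g hg => mem_norm fun x hx => ⟨conj_mem (hCn (hLM hg)) hx.1,
            conj_mem (le_normalizer hg) hx.2⟩) with e | e
      · exact hyQ y hy' (e ▸ ⟨h.mem_of_dvd hCM hCn hd (hLM y.2) hy', y.2⟩)
      · refine hnc ⟨⟨fun a b => ?_⟩⟩
        obtain ⟨a, rfl⟩ := QuotientGroup.mk'_surjective _ a
        obtain ⟨b, rfl⟩ := QuotientGroup.mk'_surjective _ b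
        rw [← commutatorElement_eq_one_iff_mul_comm, ← map_commutatorElement, hker]
        exact (hmem b (hLM b.2)).1 (e.ge b.2).1 a a.2
    · rw [← commutatorElement_inv]
      exact inv_mem (hxl k hk)
  · have h1 : 1 < #|Q| := (one_lt_card_iff_ne_bot Q).2 h0
    have h2 : #|L| ≤ Nat.card G := Nat.le_of_dvd Nat.card_pos (card_subgroup_dvd_card L)
    have h3 : 0 < Nat.card (L ⧸ Q.subgroupOf L) := Nat.card_pos
    nlinarith

variable {K : Type*} [Group K] {M L Q : Subgroup G} {φ : L →* K}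

omit [Finite G] in
theorem Soc.ker_two (s : Soc M L Q φ) (hQ : IsPGroup 2 Q) : IsPGroup 2 φ.ker := fun x => by
  obtain ⟨k, hk⟩ := pg_elem hQ ((s.ker x).1 x.2)
  exact ⟨k, Subtype.ext (Subtype.ext (by simpa using hk))⟩

theorem Soc.card (s : Soc M L Q φ) : #|L| = Nat.card K * #|Q| := by
  have e : φ.ker = Q.subgroupOf L := by ext x; exact s.ker x
  rw [card_eq_mul s.QL rfl, relIndex, ← e, index_ker, MonoidHom.range_eq_top.2 s.surj, card_top]

theorem Soc.cyc (s : Soc M L Q φ) (ht : Thin G) (hQ : IsPGroup 2 Q) (h0 : Q ≠ ⊥) (T : Subgroup K)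
    (hT : IsPGroup 3 T) : IsCyclic T := by
  obtain ⟨S, hS⟩ := hT.exists_le_sylow
  obtain ⟨S, rfl⟩ := Sylow.mapSurjective_surjective s.surj 3 S
  have h1 := ht.cyc ((S : Subgroup L).map L.subtype) Q (S.isPGroup'.map _) hQ h0
    ((map_subtype_le _).trans (s.LM.trans s.nQ))
  have h2 : IsCyclic (S : Subgroup L) :=
    isCyclic_of_surjective _ ((S : Subgroup L).equivMapOfInjective _ L.subtype_injective).symm.surjective
  have h3 : IsCyclic ((S : Subgroup L).map φ) :=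
    isCyclic_of_surjective _ (φ.subgroupMap_surjective S)
  rw [Sylow.coe_mapSurjective] at hS
  exact isCyclic_of_le hS

theorem Soc.frob (s : Soc M L Q φ) (hQ : IsPGroup 2 Q) (hp : p.Prime) (p2 : p ≠ 2) {y u : K}
    (hy : orderOf y = p) (hu : orderOf u = 3) (huy : u ∈ 𝐍(zpowers y)) :
    ∃ y ∈ M, ∃ u ∈ M, orderOf y = p ∧ orderOf u = 3 ∧ u ∈ 𝐍(zpowers y) := by
  haveI := Fact.mk hp
  have hk := s.ker_two hQ
  obtain ⟨y, rfl⟩ := s.surj y
  obtain ⟨n, hn, e⟩ := lift_order φ hk hp p2 hy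
  rw [← e] at huy
  generalize y ^ n = y' at hn huy
  obtain ⟨k, hk'⟩ := hk.exists_card_eq
  rw [← MonoidHom.map_zpowers, CL.PC.normalizer_map_of_isPGroup (p := p) s.surj
    (hk' ▸ Nat.Coprime.pow_left _ ((Nat.coprime_primes Nat.prime_two hp).2 p2.symm))
    (IsPGroup.of_card (n := 1) (by rw [Nat.card_zpowers, hn, pow_one]))] at huy
  obtain ⟨u, hu', rfl⟩ := huy
  obtain ⟨m, hm, -⟩ := lift_order φ hk Nat.prime_three (by norm_num) hu
  refine ⟨y', s.LM y'.2, (u ^ m : L), s.LM (u ^ m).2, by rw [orderOf_coe, hn], by rw [orderOf_coe, hm],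
    mem_norm fun x hx => ?_⟩
  obtain ⟨i, rfl⟩ := mem_zpowers_iff.1 hx
  obtain ⟨j, hj⟩ := mem_zpowers_iff.1 (conj_mem (pow_mem hu' m) (zpow_mem (mem_zpowers y') i))
  exact mem_zpowers_iff.2 ⟨j, by simpa using congrArg Subtype.val hj⟩

end CL.K3
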